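import Cfsg.Agent.Lib.PCore.Basic
import Cfsg.Agent.Lib.Spectrum1234.FpfThree
import Mathlib.GroupTheory.Perm.Cycle.Type
import Mathlib.GroupTheory.QuotientGroup.Basic

/-!
# An automorphism of order three with fixed points of odd order, `3 ∤ |G|`

Inheritance to invariant subgroups and quotients, invariant Sylow subgroups, and, on an invariant
2-subgroup: the group has class at most two and `C(z) = C(σ z)` for every element `z`.
-/

set_option autoImplicit false
set_option linter.unusedSectionVars false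

namespace Cfsg.Agent.ThreeFpf

open Subgroup
open scoped commutatorElement

universe u

variable {G : Type u} [Group G]

/-- The hypothesis. -/
structure Act (σ : MulAut G) : Prop where
  three : ∀ x : G, σ (σ (σ x)) = x
  ndvd : ¬ 3 ∣ Nat.card G
  odd : ∀ x : G, σ x = x → Odd (orderOf x)

/-- An invariant subgroup. -/
def Inv (σ : MulAut G) (H : Subgroup G) : Prop := ∀ x ∈ H, σ x ∈ H

/-- A fixed point of an invariant subset of size prime to three. -/
theorem exists_fixed {α : Type*} [Finite α] (f : α → α) (hf : ∀ x, f (f (f x)) = x)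
    (hα : ¬ 3 ∣ Nat.card α) : ∃ x, f x = x := by
  classical
  have := Fintype.ofFinite α
  have : Fact (Nat.Prime 3) := ⟨Nat.prime_three⟩
  let e : Equiv.Perm α := ⟨f, fun x => f (f x), hf, hf⟩
  exact Equiv.Perm.exists_fixed_point_of_prime (p := 3) (n := 1) (σ := e)
    (by rwa [← Nat.card_eq_fintype_card]) (Equiv.ext fun x => hf x)

variable {σ : MulAut G} (h : Act σ)
include h

theorem Act.apply_symm (x : G) : σ (σ x) = σ⁻¹ x := by
  rw [MulAut.inv_apply, MulEquiv.eq_symm_apply, h.three]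

theorem Inv.mem_iff {H : Subgroup G} (hH : Inv σ H) {x : G} : σ x ∈ H ↔ x ∈ H :=
  ⟨fun hx => h.three x ▸ hH _ (hH _ hx), hH x⟩

theorem Inv.map_eq {H : Subgroup G} (hH : Inv σ H) : H.map σ.toMonoidHom = H := by
  ext x
  constructor
  · rintro ⟨y, hy, rfl⟩
    exact hH y hy
  · exact fun hx => ⟨σ (σ x), hH _ (hH _ hx), h.three x⟩

theorem inv_iff_map_eq {H : Subgroup G} : Inv σ H ↔ H.map σ.toMonoidHom = H :=
  ⟨fun hH => hH.map_eq h, fun e x hx => e ▸ mem_map_of_mem σ.toMonoidHom hx⟩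

variable [Finite G]

theorem Act.sub {H : Subgroup G} (hH : Inv σ H) :
    ∃ τ : MulAut H, Act τ ∧ ∀ x : H, (τ x : G) = σ x := by
  refine ⟨(σ.subgroupMap H).trans (MulEquiv.subgroupCongr (hH.map_eq h)), ⟨fun x => ?_, ?_, fun x hx => ?_⟩,
    fun x => rfl⟩
  · exact Subtype.ext (h.three x)
  · exact fun hd => h.ndvd (hd.trans (card_subgroup_dvd_card H))
  · rw [← Subgroup.orderOf_coe]
    exact h.odd x (congrArg Subtype.val hx)

theorem Act.exists_fixed_mem_coset {N : Subgroup G} (hN : Inv σ N) {k : G} (hk : k⁻¹ * σ k ∈ N) :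
    ∃ n ∈ N, σ (k * n) = k * n := by
  let f : N → N := fun n => ⟨k⁻¹ * σ (k * n), by
    rw [map_mul, ← mul_assoc]; exact mul_mem hk (hN _ n.2)⟩
  obtain ⟨n, hn⟩ := exists_fixed f (fun n => Subtype.ext (by
      show k⁻¹ * σ (k * (k⁻¹ * σ (k * (k⁻¹ * σ (k * (n : G)))))) = n
      rw [mul_inv_cancel_left, mul_inv_cancel_left, h.three, inv_mul_cancel_left]))
    (fun hd => h.ndvd (hd.trans (card_subgroup_dvd_card N)))
  refine ⟨n, n.2, ?_⟩
  have hn' : k⁻¹ * σ (k * (n : G)) = (n : G) := congrArg Subtype.val hn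
  conv_rhs => rw [← hn']
  rw [mul_inv_cancel_left]

theorem Act.quot {N : Subgroup G} [N.Normal] (hN : Inv σ N) :
    ∃ τ : MulAut (G ⧸ N), Act τ ∧ ∀ x : G, τ (QuotientGroup.mk' N x) = QuotientGroup.mk' N (σ x) := by
  refine ⟨QuotientGroup.congr N N σ (hN.map_eq h), ⟨fun x => ?_, ?_, fun x hx => ?_⟩, fun x => rfl⟩
  · obtain ⟨x, rfl⟩ := QuotientGroup.mk'_surjective N x
    exact congrArg (QuotientGroup.mk' N) (h.three x)
  · exact fun hd => h.ndvd (hd.trans (N.card_quotient_dvd_card))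
  · obtain ⟨x, rfl⟩ := QuotientGroup.mk'_surjective N x
    have hx' : QuotientGroup.mk' N (σ x) = QuotientGroup.mk' N x := hx
    obtain ⟨n, hn, hfix⟩ := h.exists_fixed_mem_coset hN (k := x) (QuotientGroup.eq.1 hx'.symm)
    have he : QuotientGroup.mk' N (x * n) = QuotientGroup.mk' N x := by
      rw [map_mul, (show QuotientGroup.mk' N n = 1 from (QuotientGroup.eq_one_iff n).2 hn), mul_one]
    rw [← he]
    exact (h.odd _ hfix).of_dvd_nat (orderOf_map_dvd _ _)

/-- An invariant Sylow subgroup. -/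
theorem Act.exists_inv_sylow (p : ℕ) [Fact p.Prime] : ∃ T : Sylow p G, Inv σ (T : Subgroup G) := by
  let f : Sylow p G → Sylow p G := fun P => P.mapSurjective (f := σ.toMonoidHom) σ.surjective
  have hf : ∀ (P : Sylow p G) (x : G), x ∈ (f P : Subgroup G) ↔ ∃ y ∈ (P : Subgroup G), σ y = x :=
    fun P x => Iff.rfl
  obtain ⟨P, hP⟩ := exists_fixed f (fun P => Sylow.ext (by
      ext x
      simp only [hf]
      constructor
      · rintro ⟨_, ⟨_, ⟨w, hw, rfl⟩, rfl⟩, rfl⟩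
        rwa [h.three]
      · exact fun hx => ⟨_, ⟨_, ⟨x, hx, rfl⟩, rfl⟩, h.three x⟩))
    (fun hd => h.ndvd (hd.trans ((default : Sylow p G).card_dvd_index.trans
      (index_dvd_card _))))
  exact ⟨P, fun x hx => hP ▸ (hf P (σ x)).2 ⟨x, hx, rfl⟩⟩

omit [Finite G] in
/-- No fixed points on a 2-subgroup. -/
theorem Act.eq_one_of_fixed {x : G} (hx : σ x = x) {k : ℕ} (h2 : x ^ 2 ^ k = 1) : x = 1 := by
  obtain ⟨j, -, hj⟩ := (Nat.dvd_prime_pow Nat.prime_two).1 (orderOf_dvd_of_pow_eq_one h2)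
  have ho := h.odd x hx
  rcases Nat.eq_zero_or_pos j with rfl | hpos
  · exact orderOf_eq_one_iff.1 (by rw [hj, pow_zero])
  · rw [hj] at ho
    exact absurd (ho.of_dvd_nat (dvd_pow_self 2 hpos.ne')) (by decide)

/-- An invariant 2-subgroup: commutators are central, `x σx σ²x = 1`, and centralisers are shared. -/
theorem Act.two_group {T : Subgroup G} (hT : Inv σ T) (h2 : IsPGroup 2 T) :
    (∀ x ∈ T, x * σ x * σ (σ x) = 1 ∧ Commute x (σ x)) ∧
    (∀ x ∈ T, ∀ y ∈ T, ∀ z ∈ T, Commute ⁅x, y⁆ z) ∧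
    ∀ y ∈ T, ∀ z ∈ T, Commute y z → Commute y (σ z) := by
  obtain ⟨τ, hτ, hval⟩ := h.sub hT
  have hfpf : ∀ x : T, τ x = x → x = 1 := fun x hx => by
    obtain ⟨k, hk⟩ := h2 x
    exact hτ.eq_one_of_fixed hx hk
  obtain ⟨hprod, hconj, hcomm⟩ := Spectrum1234.conj_commute_of_fpf_three τ hτ.three hfpf
  have hcl : ∀ x y z : T, Commute ⁅x, y⁆ z := fun x y z => by
    have h3 := Spectrum1234.pow_three_of_conj_commute hconj x y z
    obtain ⟨k, hk⟩ := h2 ⁅z, ⁅x, y⁆⁆
    have h1 : ⁅z, ⁅x, y⁆⁆ = 1 := orderOf_eq_one_iff.1 (Nat.eq_one_of_dvd_coprimes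
      ((show Nat.Coprime 3 2 by decide).pow_right k) (orderOf_dvd_of_pow_eq_one h3)
      (orderOf_dvd_of_pow_eq_one hk))
    exact (commutatorElement_eq_one_iff_mul_comm.1 h1 :).symm
  refine ⟨fun x hx => ⟨?_, ?_⟩, fun x hx y hy z hz => (hcl ⟨x, hx⟩ ⟨y, hy⟩ ⟨z, hz⟩).map T.subtype, ?_⟩
  · have := congrArg Subtype.val (hprod ⟨x, hx⟩)
    simpa [hval] using this
  · have := (hcomm ⟨x, hx⟩).map T.subtype
    simpa [hval] using this
  intro y hy z hz hyz
  suffices H : ∀ a b : T, Commute a b → Commute a (τ b) by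
    have := (H ⟨y, hy⟩ ⟨z, hz⟩ (Subtype.ext hyz.eq)).map T.subtype
    simpa [hval] using this
  intro a b hab
  have mulL : ∀ u v w : T, ⁅u * v, w⁆ = ⁅u, w⁆ * ⁅v, w⁆ := fun u v w => by
    have e : ⁅u * v, w⁆ = u * ⁅v, w⁆ * u⁻¹ * ⁅u, w⁆ := by
      simp only [commutatorElement_def]; group
    rw [e, ← (hcl v w u).eq, mul_inv_cancel_right, (hcl v w ⁅u, w⁆).eq]
  have mulR : ∀ u v w : T, ⁅u, v * w⁆ = ⁅u, v⁆ * ⁅u, w⁆ := fun u v w => by
    have e : ⁅u, v * w⁆ = ⁅u, v⁆ * (v * ⁅u, w⁆ * v⁻¹) := by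
      simp only [commutatorElement_def]; group
    rw [e, ← (hcl u w v).eq, mul_inv_cancel_right]
  have self : ∀ u : T, ⁅u, τ u⁆ = 1 := fun u => commutatorElement_eq_one_iff_mul_comm.2 (hcomm u).eq
  have swap : ∀ u v : T, ⁅u, τ v⁆ = ⁅τ u, v⁆ := fun u v => by
    have h1 := self (u * v)
    rw [map_mul, mulL, mulR, mulR, self, self, one_mul, mul_one] at h1
    rw [eq_inv_of_mul_eq_one_left h1, commutatorElement_inv]
  have h0 : ⁅a, b⁆ = 1 := commutatorElement_eq_one_iff_mul_comm.2 hab.eq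
  have h1 : ⁅τ a, τ b⁆ = 1 := by rw [← map_commutatorElement, h0, map_one]
  have hab2 : τ (τ a) = (a * τ a)⁻¹ := (inv_eq_of_mul_eq_one_right (hprod a)).symm
  have h2' : ⁅(a * τ a)⁻¹, b⁆ = 1 := by rw [← hab2, ← swap, h1]
  have h3 : ⁅a * τ a, b⁆ = 1 := by
    have := mulL (a * τ a) (a * τ a)⁻¹ b
    rw [mul_inv_cancel, h2', mul_one, commutatorElement_one_left] at this
    exact this.symm
  rw [mulL, h0, one_mul, ← swap] at h3
  exact commutatorElement_eq_one_iff_mul_comm.1 h3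

end Cfsg.Agent.ThreeFpf
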