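import Cfsg.Agent.Lib.ThreeFpf.Solvable
import Cfsg.Agent.Lib.StellmacherW.Main
import Cfsg.Agent.Lib.ZStar.Main
import Cfsg.Agent.S0205

/-!
# A minimal counterexample: fusion, and involution centralisers are soluble

Fusion in an invariant Sylow 2-subgroup `T` is induced by `T` and the fixed points normalising `T`.
An involution `z` of `T` is `Good` if such fixed points cannot move it within its `T`-class; every
involution is `T`-conjugate to a good one, and for a good `z` the involution `σ z` is isolated in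
`C(z)`, so that `C(z) = O(C(z)) C(z, σ z)`.
-/

set_option autoImplicit false
set_option linter.unusedSectionVars false
set_option linter.style.haveILetI false

namespace Cfsg.Agent.ThreeFpf

open Subgroup
open Cfsg (pCore pPrimeCore oddCore)

universe u

variable {G : Type u} [Group G] [Finite G] {σ : MulAut G}

/-- A minimal counterexample: simple. -/
structure Cex (σ : MulAut G) : Prop where
  act : Act σ
  simple : IsSimpleGroup G
  nonsolv : ¬ Group.IsSolvable G
  solv : ∀ H : Subgroup G, Inv σ H → H ≠ ⊤ → Group.IsSolvable H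

variable (c : Cex σ)
include c

theorem Cex.eq_bot_of_normal {N : Subgroup G} (hN : N.Normal) (hne : N ≠ ⊤) : N = ⊥ :=
  (c.simple.eq_bot_or_eq_top_of_normal N hN).resolve_right hne

theorem Cex.ne_top_of_solvable {H : Subgroup G} (hH : Group.IsSolvable H) : H ≠ ⊤ := fun h =>
  c.nonsolv (Group.isSolvable_of_surjective (f := H.subtype) fun g => ⟨⟨g, h ▸ mem_top g⟩, rfl⟩)

theorem Cex.center_eq_bot : center G = ⊥ :=
  c.eq_bot_of_normal inferInstance
    (c.ne_top_of_solvable (Group.isSolvable_of_comm fun a b => (IsMulCommutative.is_comm (M := center G)).comm a b))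

theorem Cex.centralizer_ne_top {x : G} (hx : x ≠ 1) : centralizer ({x} : Set G) ≠ ⊤ := fun h => by
  have h1 : x ∈ center G := mem_center_iff.2 fun g =>
    mem_centralizer_singleton_iff.1 (h ▸ mem_top g)
  rw [c.center_eq_bot, mem_bot] at h1
  exact hx h1

theorem Cex.normalizer_ne_top {H : Subgroup G} (h1 : H ≠ ⊥) (h2 : H ≠ ⊤) :
    normalizer (H : Set G) ≠ ⊤ := fun h =>
  h1 (c.eq_bot_of_normal (normalizer_eq_top_iff.1 h) h2)

theorem Cex.two_dvd : 2 ∣ Nat.card G := by
  by_contra h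
  exact c.nonsolv (S0205.result (Nat.odd_iff.2 (Nat.two_dvd_ne_zero.1 h)))

omit c in
theorem isSolvable_of_isPGroup {H : Subgroup G} (hH : IsPGroup 2 H) : Group.IsSolvable H := by
  haveI : Fact (Nat.Prime 2) := ⟨Nat.prime_two⟩
  haveI := hH.isNilpotent
  infer_instance

theorem Cex.not_involves : ¬ Cfsg.Involves (Equiv.Perm (Fin 4)) G := by
  rintro ⟨K, R, hR, ⟨e⟩⟩
  refine c.act.ndvd (Dvd.dvd.trans ?_ (card_subgroup_dvd_card K))
  refine Dvd.dvd.trans ?_ (R.subgroupOf K).card_quotient_dvd_card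
  rw [Nat.card_congr e.toEquiv, Nat.card_perm, Nat.card_fin]
  decide

theorem Cex.sylow_ne_bot (T : Sylow 2 G) : (T : Subgroup G) ≠ ⊥ := by
  haveI : Fact (Nat.Prime 2) := ⟨Nat.prime_two⟩
  exact T.ne_bot_of_dvd_card c.two_dvd

variable {T : Sylow 2 G} (hT : Inv σ (T : Subgroup G))
include hT

/-- Fusion in `T` is induced by `T` and fixed points normalising `T`. -/
theorem Cex.fusion {A : Set G} (hA : A ⊆ (T : Subgroup G)) {g : G}
    (hg : ∀ a ∈ A, g * a * g⁻¹ ∈ (T : Subgroup G)) :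
    ∃ s ∈ (T : Subgroup G), ∃ d ∈ normalizer ((T : Subgroup G) : Set G), σ d = d ∧
      ∀ a ∈ A, g * a * g⁻¹ = s * (d * a * d⁻¹) * s⁻¹ := by
  haveI : Fact (Nat.Prime 2) := ⟨Nat.prime_two⟩
  set W := StellmacherW.wOf (T : Subgroup G) with hW
  obtain ⟨x, hx, hxe⟩ := (StellmacherW.controls_wOf c.not_involves T hA).2 g
    (by rintro _ ⟨a, ha, rfl⟩; exact hg a ha)
  have hWinv : Inv σ W := (inv_iff_map_eq c.act).2 (by
    rw [hW, StellmacherW.map_wOf' _ σ.injective, hT.map_eq c.act])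
  have hTN : (T : Subgroup G) ≤ normalizer (W : Set G) := (StellmacherW.adm_wOf _).hTA
  have hW2 : IsPGroup 2 W := T.isPGroup'.to_le (StellmacherW.adm_wOf _).hAT
  have hW1 : W ≠ ⊥ := by
    haveI := (nontrivial_iff_ne_bot _).2 (c.sylow_ne_bot T)
    haveI := T.isPGroup'.center_nontrivial
    obtain ⟨k, hk, hc⟩ :=
      (T.isPGroup'.to_subgroup (center ↥(T : Subgroup G))).nontrivial_iff_card.mp inferInstance
    obtain ⟨z, hz⟩ := exists_prime_orderOf_dvd_card' (G := center ↥(T : Subgroup G)) 2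
      (hc ▸ dvd_pow_self 2 hk.ne')
    intro e
    have hzW := StellmacherW.le_wOf (A := zpowers ((z : ↥(T : Subgroup G)) : G))
      (T := (T : Subgroup G)) (StellmacherW.adm_central (StellmacherW.zpowers_elem (by
        have h2 := congrArg (fun w : center ↥(T : Subgroup G) =>
          ((w : ↥(T : Subgroup G)) : G)) ((congrArg (z ^ ·) hz).symm.trans (pow_orderOf_eq_one z))
        exact h2))
        (zpowers_le.2 (z : ↥(T : Subgroup G)).2) fun y hy => mem_centralizer_iff.2 (by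
          rintro _ ⟨i, rfl⟩
          exact ((show Commute y ((z : ↥(T : Subgroup G)) : G) from
            congrArg Subtype.val (mem_center_iff.1 z.2 ⟨y, hy⟩)).zpow_right i).eq.symm))
      (mem_zpowers _)
    rw [← hW, e, mem_bot, OneMemClass.coe_eq_one, OneMemClass.coe_eq_one] at hzW
    rw [hzW, orderOf_one] at hz
    omega
  haveI := c.solv _ (c.act.inv_normalizer hWinv)
    (c.normalizer_ne_top hW1 (c.ne_top_of_solvable (isSolvable_of_isPGroup hW2)))
  obtain ⟨τ, hτ, hτv⟩ := c.act.sub (c.act.inv_normalizer hWinv)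
  have hT' : Inv τ ((T.subtype hTN : Sylow 2 ↥(normalizer (W : Set G))) : Subgroup _) := fun y hy => by
    show ((τ y : ↥(normalizer (W : Set G))) : G) ∈ (T : Subgroup G)
    rw [hτv]
    exact hT _ hy
  obtain ⟨s, hs, d, hd, hfix, hfe⟩ := hτ.fusion_solvable hT' ⟨x, hx⟩
  refine ⟨s, hs, d, mem_normalizer_fintype fun y hy => ?_, by rw [← hτv, hfix], fun a ha => ?_⟩
  · exact ((mem_normalizer_iff.1 hd ⟨y, hTN hy⟩).1 hy :)
  · have := congrArg Subtype.val (hfe ⟨a, hTN (hA ha)⟩ (hA ha) (by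
      show x * a * x⁻¹ ∈ (T : Subgroup G)
      rw [← hxe a ha]; exact hg a ha))
    rw [hxe a ha]
    exact this

omit c hT in
/-- Fixed points normalising `T` cannot move `z` within its `T`-class. -/
def Good (σ : MulAut G) (T : Sylow 2 G) (z : G) : Prop :=
  z ∈ (T : Subgroup G) ∧ orderOf z = 2 ∧ ∀ d ∈ normalizer ((T : Subgroup G) : Set G), σ d = d →
    ∀ s ∈ (T : Subgroup G), d * z * d⁻¹ = s * z * s⁻¹ → d * z * d⁻¹ = z

omit c hT in
theorem orderOf_conj (g x : G) : orderOf (g * x * g⁻¹) = orderOf x := by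
  rw [← MulAut.conj_apply, MulEquiv.orderOf_eq]

omit c hT in
theorem Good.conj {z : G} (hz : Good σ T z) {d : G} (hd : d ∈ normalizer ((T : Subgroup G) : Set G))
    (hfix : σ d = d) : Good σ T (d * z * d⁻¹) := by
  refine ⟨(mem_normalizer_iff.1 hd z).1 hz.1, (orderOf_conj d z).trans hz.2.1,
    fun e he hefix s hs hes => ?_⟩
  have h1 := hz.2.2 (d⁻¹ * e * d) (mul_mem (mul_mem (inv_mem hd) he) hd)
    (by rw [map_mul, map_mul, map_inv, hfix, hefix]) (d⁻¹ * s * d)
    ((mem_normalizer_iff''.1 hd s).1 hs) (by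
      calc d⁻¹ * e * d * z * (d⁻¹ * e * d)⁻¹ = d⁻¹ * (e * (d * z * d⁻¹) * e⁻¹) * d := by group
        _ = d⁻¹ * (s * (d * z * d⁻¹) * s⁻¹) * d := by rw [hes]
        _ = d⁻¹ * s * d * z * (d⁻¹ * s * d)⁻¹ := by group)
  calc e * (d * z * d⁻¹) * e⁻¹ = d * (d⁻¹ * e * d * z * (d⁻¹ * e * d)⁻¹) * d⁻¹ := by group
    _ = d * z * d⁻¹ := by rw [h1]

omit c hT in
/-- `G` acting on itself by conjugation. -/
def CP (G : Type u) : Type u := G

omit c hT in
instance instMulActionCP : MulAction G (CP G) where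
  smul g x := MulAut.conj g (show G from x)
  one_smul x := show MulAut.conj (1 : G) (show G from x) = (show G from x) by rw [map_one]; rfl
  mul_smul g k x := show MulAut.conj (g * k) (show G from x) =
    MulAut.conj g (MulAut.conj k (show G from x)) by rw [map_mul]; rfl

/-- Every involution of `T` is `T`-conjugate to a good one. -/
theorem Cex.exists_good {z : G} (hzT : z ∈ (T : Subgroup G)) (hz : orderOf z = 2) :
    ∃ t ∈ (T : Subgroup G), Good σ T (t * z * t⁻¹) := by
  haveI : Fact (Nat.Prime 2) := ⟨Nat.prime_two⟩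
  let E : Subgroup G :=
    { carrier := {d | d ∈ normalizer ((T : Subgroup G) : Set G) ∧ σ d = d ∧
        ∃ s ∈ (T : Subgroup G), d * z * d⁻¹ = s * z * s⁻¹}
      one_mem' := ⟨one_mem _, map_one σ, 1, one_mem _, rfl⟩
      mul_mem' := by
        rintro a b ⟨ha, hafix, s, hs, hse⟩ ⟨hb, hbfix, t, ht, hte⟩
        refine ⟨mul_mem ha hb, by rw [map_mul, hafix, hbfix], a * t * a⁻¹ * s,
          mul_mem ((mem_normalizer_iff.1 ha t).1 ht) hs, ?_⟩
        calc a * b * z * (a * b)⁻¹ = a * (b * z * b⁻¹) * a⁻¹ := by group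
          _ = a * t * a⁻¹ * (a * z * a⁻¹) * (a * t * a⁻¹)⁻¹ := by rw [hte]; group
          _ = a * t * a⁻¹ * s * z * (a * t * a⁻¹ * s)⁻¹ := by rw [hse]; group
      inv_mem' := by
        rintro a ⟨ha, hafix, s, hs, hse⟩
        refine ⟨inv_mem ha, by rw [map_inv, hafix], a⁻¹ * s⁻¹ * a,
          (mem_normalizer_iff''.1 ha _).1 (inv_mem hs), ?_⟩
        calc a⁻¹ * z * a⁻¹⁻¹ = a⁻¹ * s⁻¹ * (s * z * s⁻¹) * (s * a) := by group
          _ = a⁻¹ * s⁻¹ * (a * z * a⁻¹) * (s * a) := by rw [hse]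
          _ = a⁻¹ * s⁻¹ * a * z * (a⁻¹ * s⁻¹ * a)⁻¹ := by group }
  have hEodd : (Nat.card E).Coprime 2 := by
    refine (Nat.prime_two.coprime_iff_not_dvd.2 fun hd => ?_).symm
    obtain ⟨e, he⟩ := exists_prime_orderOf_dvd_card' (G := E) 2 hd
    have := c.act.odd (e : G) e.2.2.1
    rw [Subgroup.orderOf_coe, he] at this
    exact absurd this (by decide)
  obtain ⟨n, hn⟩ := IsPGroup.iff_card.1 T.isPGroup'
  obtain ⟨k, hk, hfixed⟩ := Coprime.exists_fixed_point (A := E) (K := (T : Subgroup G))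
    (X := CP G) (fun e he => he.1) (by rw [hn]; exact hEodd.pow_right n)
    (Or.inr (isSolvable_of_isPGroup T.isPGroup')) z
    (fun a ha => by
      obtain ⟨s, hs, hse⟩ := ha.2.2
      exact ⟨s, hs, hse.symm⟩)
  refine ⟨k, hk, mul_mem (mul_mem hk hzT) (inv_mem hk), (orderOf_conj k z).trans hz,
    fun d hd hfix s hs he => hfixed d ⟨hd, hfix, (d * k * d⁻¹)⁻¹ * s * k,
      mul_mem (mul_mem (inv_mem ((mem_normalizer_iff.1 hd k).1 hk)) hs) hk, ?_⟩⟩
  calc d * z * d⁻¹ = (d * k * d⁻¹)⁻¹ * (d * (k * z * k⁻¹) * d⁻¹) * (d * k * d⁻¹) := by group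
    _ = (d * k * d⁻¹)⁻¹ * (s * (k * z * k⁻¹) * s⁻¹) * (d * k * d⁻¹) := by rw [he]
    _ = (d * k * d⁻¹)⁻¹ * s * k * z * ((d * k * d⁻¹)⁻¹ * s * k)⁻¹ := by group

/-- `σ z` is isolated in `C(z)`. -/
theorem Cex.isolated {z : G} (hz : Good σ T z) {h : G} (hh : h * z * h⁻¹ = z)
    (hc : Commute (σ z) (h * σ z * h⁻¹)) : h * σ z * h⁻¹ = σ z := by
  haveI : Fact (Nat.Prime 2) := ⟨Nat.prime_two⟩
  obtain ⟨htwo1, -, htwo3⟩ := c.act.two_group hT T.isPGroup'
  have hz2 : z * z = 1 := by
    have := pow_orderOf_eq_one z; rwa [hz.2.1, pow_two] at this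
  have hu2 : σ z * σ z = 1 := by rw [← map_mul, hz2, map_one]
  set u := σ z with hu
  set w := h * u * h⁻¹ with hw
  have hzu : Commute z u := (htwo1 z hz.1).2
  have hzw : Commute z w := by
    show z * w = w * z
    calc z * w = h * (z * u) * h⁻¹ := by
          rw [hw]; nth_rewrite 1 [← hh]; group
      _ = h * (u * z) * h⁻¹ := by rw [hzu.eq]
      _ = w * z := by rw [hw]; nth_rewrite 2 [← hh]; group
  have hw2 : w * w = 1 := by
    calc w * w = h * (u * u) * h⁻¹ := by rw [hw]; group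
      _ = 1 := by rw [hu2]; group
  have hcomm : ∀ x ∈ ({z, u, w} : Set G), ∀ y ∈ ({z, u, w} : Set G), x * y = y * x := by
    rintro x (rfl | rfl | rfl) y (rfl | rfl | rfl)
    exacts [rfl, hzu.eq, hzw.eq, hzu.eq.symm, rfl, hc.eq, hzw.eq.symm, hc.eq.symm, rfl]
  haveI hab : IsMulCommutative (closure ({z, u, w} : Set G)) := isMulCommutative_closure hcomm
  have hsq : ∀ x ∈ closure ({z, u, w} : Set G), x * x = 1 := fun x hx => by
    refine closure_induction (p := fun x _ => x * x = 1) ?_ (mul_one 1) ?_ ?_ hx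
    · rintro x (rfl | rfl | rfl)
      exacts [hz2, hu2, hw2]
    · intro a b ha hb ha2 hb2
      have hab' : a * b = b * a := congrArg Subtype.val (hab.is_comm.comm ⟨a, ha⟩ ⟨b, hb⟩)
      calc a * b * (a * b) = a * (b * a) * b := by group
        _ = a * a * (b * b) := by rw [← hab']; group
        _ = 1 := by rw [ha2, hb2, mul_one]
    · intro a _ ha2
      rw [← mul_inv_rev, ha2, inv_one]
  have h2 : IsPGroup 2 (closure ({z, u, w} : Set G)) := fun x => ⟨1, Subtype.ext (by
    show (x : G) ^ 2 ^ 1 = 1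
    rw [pow_one, pow_two]; exact hsq _ x.2)⟩
  obtain ⟨P, hP⟩ := h2.exists_le_sylow
  obtain ⟨g, hg⟩ := MulAction.exists_smul_eq G P T
  have hmove : ∀ x ∈ ({z, u, w} : Set G), g * x * g⁻¹ ∈ (T : Subgroup G) := fun x hx => by
    rw [← hg, Sylow.coe_subgroup_smul]
    exact smul_mem_pointwise_smul x (MulAut.conj g) _ (hP (subset_closure hx))
  have hzm := hmove z (Or.inl rfl)
  have hum := hmove u (Or.inr (Or.inl rfl))
  have huT : u ∈ (T : Subgroup G) := hT _ hz.1
  obtain ⟨s, hs, d, hd, hdfix, hde⟩ := c.fusion hT (A := {z, u}) (g := g)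
    (by rintro x (rfl | rfl); exacts [hz.1, huT])
    (by rintro x (rfl | rfl); exacts [hzm, hum])
  set g' := s⁻¹ * g with hg'
  set z' := d * z * d⁻¹ with hz'
  have hgood : Good σ T z' := hz.conj hd hdfix
  have e1 : g' * z * g'⁻¹ = z' := by
    have := hde z (Or.inl rfl)
    calc g' * z * g'⁻¹ = s⁻¹ * (g * z * g⁻¹) * s := by rw [hg']; group
      _ = z' := by rw [this, hz']; group
  have e2 : g' * u * g'⁻¹ = σ z' := by
    have := hde u (Or.inr rfl)
    calc g' * u * g'⁻¹ = s⁻¹ * (g * u * g⁻¹) * s := by rw [hg']; group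
      _ = d * u * d⁻¹ := by rw [this]; group
      _ = σ z' := by rw [hz', map_mul, map_mul, map_inv, hdfix]
  set h' := g' * h * g'⁻¹ with hh'
  have e3 : h' * z' * h'⁻¹ = z' := by
    calc h' * z' * h'⁻¹ = g' * (h * z * h⁻¹) * g'⁻¹ := by rw [hh', ← e1]; group
      _ = z' := by rw [hh, e1]
  have e4 : h' * σ z' * h'⁻¹ = g' * w * g'⁻¹ := by rw [hh', ← e2, hw]; group
  have hwT : g' * w * g'⁻¹ ∈ (T : Subgroup G) := by
    have h1 := mul_mem (mul_mem (inv_mem hs) (hmove w (Or.inr (Or.inr rfl)))) hs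
    convert h1 using 1
    rw [hg']; group
  obtain ⟨t, ht, e, he, hefix, hee⟩ := c.fusion hT (A := {z', σ z'}) (g := h')
    (by rintro x (rfl | rfl); exacts [hgood.1, hT _ hgood.1])
    (by rintro x (rfl | rfl)
        · rw [e3]; exact hgood.1
        · rw [e4]; exact hwT)
  have f1 := hee z' (Or.inl rfl)
  rw [e3] at f1
  have f2 : e * z' * e⁻¹ = z' := hgood.2.2 e he hefix t⁻¹ (inv_mem ht) (by
    calc e * z' * e⁻¹ = t⁻¹ * (t * (e * z' * e⁻¹) * t⁻¹) * t := by group
      _ = t⁻¹ * z' * t⁻¹⁻¹ := by rw [← f1, inv_inv])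
  have f3 : Commute t z' := by
    rw [f2] at f1
    exact mul_inv_eq_iff_eq_mul.1 f1.symm
  have f4 := hee (σ z') (Or.inr rfl)
  have f5 : e * σ z' * e⁻¹ = σ z' := by
    have := congrArg σ f2
    rwa [map_mul, map_mul, map_inv, hefix] at this
  rw [f5, (htwo3 t ht z' hgood.1 f3).eq, mul_inv_cancel_right, e4, ← e2] at f4
  exact mul_left_cancel (mul_right_cancel f4)

omit c in
/-- `C(z, σ z)` is invariant. -/
theorem inv_centralizer_pair (ha : Act σ) {z : G} (hz : z ∈ (T : Subgroup G)) :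
    Inv σ (centralizer ({z, σ z} : Set G)) := fun x hx => by
  have hprod := ((ha.two_group hT T.isPGroup').1 z hz).1
  rw [mem_centralizer_iff] at hx ⊢
  have h1 : Commute (σ z) (σ x) := by
    show σ z * σ x = σ x * σ z
    rw [← map_mul, hx z (Or.inl rfl), map_mul]
  have h2 : Commute (σ (σ z)) (σ x) := by
    show σ (σ z) * σ x = σ x * σ (σ z)
    rw [← map_mul, hx (σ z) (Or.inr rfl), map_mul]
  rintro y (rfl | rfl)
  · have he : y = (σ y * σ (σ y))⁻¹ := by
      rw [mul_assoc] at hprod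
      exact eq_inv_of_mul_eq_one_left hprod
    rw [he]
    exact (h1.mul_left h2).inv_left.eq
  · exact h1.eq

omit c in
theorem centralizer_pair_le (z : G) :
    centralizer ({z, σ z} : Set G) ≤ centralizer ({z} : Set G) :=
  centralizer_le (Set.singleton_subset_iff.2 (Or.inl rfl))

/-- `C(z) = O(C(z)) C(z, σ z)`. -/
theorem Cex.centralizer_surjective {z : G} (hz : Good σ T z) :
    Function.Surjective ((QuotientGroup.mk' (pPrimeCore 2 ↥(centralizer ({z} : Set G)))).comp
      (Subgroup.inclusion (centralizer_pair_le (σ := σ) hT z))) := by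
  haveI : Fact (Nat.Prime 2) := ⟨Nat.prime_two⟩
  set H := centralizer ({z} : Set G) with hH
  have hzu := ((c.act.two_group hT T.isPGroup').1 z hz.1).2
  set u : ↥H := ⟨σ z, mem_centralizer_singleton_iff.2 hzu.eq.symm⟩ with hu
  have huo : orderOf u = 2 := by
    rw [hu, orderOf_mk, MulEquiv.orderOf_eq]; exact hz.2.1
  have hiso : Cfsg.IsIsolatedInvolution u := ⟨huo, fun g hg => Subtype.ext
    (c.isolated hT hz (mul_inv_eq_iff_eq_mul.2 (mem_centralizer_singleton_iff.1 g.2))
      (hg.map H.subtype))⟩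
  have hZ := ZStar.inZStar hiso
  intro q
  obtain ⟨g, rfl⟩ := QuotientGroup.mk'_surjective (pPrimeCore 2 ↥H) q
  set O := pPrimeCore 2 ↥H with hO
  have hpu : ∀ a ∈ zpowers u, g⁻¹ * a * g * a⁻¹ ∈ O := by
    intro a ha
    rw [← QuotientGroup.eq_one_iff]
    have h1 : Commute (QuotientGroup.mk' O u) (QuotientGroup.mk' O g) := by
      have h2 : QuotientGroup.mk' O (g * u * g⁻¹ * u⁻¹) = 1 := (QuotientGroup.eq_one_iff _).2 (hZ g)
      rw [map_mul, map_mul, map_mul, map_inv, map_inv, mul_inv_eq_one, mul_inv_eq_iff_eq_mul] at h2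
      exact h2.symm
    obtain ⟨i, rfl⟩ := ha
    show QuotientGroup.mk' O (g⁻¹ * u ^ i * g * (u ^ i)⁻¹) = 1
    rw [map_mul, map_mul, map_mul, map_inv, map_inv, map_zpow, mul_assoc _ _ (QuotientGroup.mk' O g),
      (h1.zpow_left i).eq, inv_mul_cancel_left, mul_inv_cancel]
  obtain ⟨n, hn, hcn⟩ := Coprime.exists_mul_mem_centralizer (A := zpowers u) (N := O)
    (fun a _ => (normalizer_eq_top (H := O)).symm ▸ mem_top a)
    (by rw [Nat.card_zpowers, huo]; exact PCore.coprime_card_pPrimeCore.symm)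
    (Or.inl inferInstance) hpu
  have hmem : ((g * n : ↥H) : G) ∈ centralizer ({z, σ z} : Set G) := by
    refine mem_centralizer_iff.2 ?_
    rintro y (rfl | rfl)
    · exact (mem_centralizer_singleton_iff.1 (g * n).2).symm
    · exact congrArg Subtype.val (mem_centralizer_iff.1 hcn u (mem_zpowers u))
  refine ⟨⟨_, hmem⟩, ?_⟩
  show QuotientGroup.mk' O (g * n) = QuotientGroup.mk' O g
  rw [map_mul, (show QuotientGroup.mk' O n = 1 from (QuotientGroup.eq_one_iff n).2 hn), mul_one]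

/-- Involution centralisers are soluble. -/
theorem Cex.solvable_centralizer {x : G} (hx : orderOf x = 2) :
    Group.IsSolvable ↥(centralizer ({x} : Set G)) := by
  haveI : Fact (Nat.Prime 2) := ⟨Nat.prime_two⟩
  have hgood : ∀ z, Good σ T z → Group.IsSolvable ↥(centralizer ({z} : Set G)) := by
    intro z hz
    have hz1 : z ≠ 1 := fun e => by have := hz.2.1; rw [e, orderOf_one] at this; omega
    haveI := c.solv _ (inv_centralizer_pair hT c.act hz.1)
      (ne_top_of_le_ne_top (c.centralizer_ne_top hz1) (centralizer_pair_le hT z))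
    haveI := Group.isSolvable_of_surjective (c.centralizer_surjective hT hz)
    haveI : Group.IsSolvable ↥(pPrimeCore 2 ↥(centralizer ({z} : Set G))) :=
      S0205.result (Nat.coprime_two_right.1 PCore.coprime_card_pPrimeCore)
    exact Group.isSolvable_of_ker_le_range (Subgroup.subtype (pPrimeCore 2 _))
      (QuotientGroup.mk' (pPrimeCore 2 ↥(centralizer ({z} : Set G))))
      (by rw [QuotientGroup.ker_mk', range_subtype])
  obtain ⟨P, hP⟩ := (IsPGroup.of_card (n := 1)
    (by rw [Nat.card_zpowers, hx, pow_one]) : IsPGroup 2 (zpowers x)).exists_le_sylow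
  obtain ⟨g, hg⟩ := MulAction.exists_smul_eq G P T
  have hgx : g * x * g⁻¹ ∈ (T : Subgroup G) := by
    rw [← hg, Sylow.coe_subgroup_smul]
    exact smul_mem_pointwise_smul x (MulAut.conj g) _ (hP (mem_zpowers x))
  obtain ⟨t, -, hgd⟩ := c.exists_good hT hgx ((orderOf_conj g x).trans hx)
  haveI := hgood _ hgd
  let f : ↥(centralizer ({x} : Set G)) →* ↥(centralizer ({t * (g * x * g⁻¹) * t⁻¹} : Set G)) :=
    ((MulAut.conj (t * g)).toMonoidHom.comp (centralizer ({x} : Set G)).subtype).codRestrict _ fun y =>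
      mem_centralizer_singleton_iff.2 (by
        have hy := mem_centralizer_singleton_iff.1 y.2
        show t * g * (y : G) * (t * g)⁻¹ * (t * (g * x * g⁻¹) * t⁻¹) =
          t * (g * x * g⁻¹) * t⁻¹ * (t * g * (y : G) * (t * g)⁻¹)
        calc _ = t * g * ((y : G) * x) * (t * g)⁻¹ := by group
          _ = t * g * (x * y) * (t * g)⁻¹ := by rw [hy]
          _ = _ := by group)
  exact Group.isSolvable_of_isSolvable_injective (f := f) fun a b e =>
    Subtype.ext ((MulAut.conj (t * g)).injective (congrArg Subtype.val e))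

theorem Cex.isPConstrained {x : G} (hx : orderOf x = 2) :
    Cfsg.IsPConstrained 2 ↥(centralizer ({x} : Set G)) := by
  haveI : Fact (Nat.Prime 2) := ⟨Nat.prime_two⟩
  haveI := c.solvable_centralizer hT hx
  exact PCore.isPConstrained_of_isPSolvable PCore.isPSolvable_of_isSolvable

end Cfsg.Agent.ThreeFpf
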