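import Cfsg.Agent.Lib.ThreeFpf.Strong

/-!
# Solubility

A finite group of order prime to `3` with an automorphism `σ`, `σ ^ 3 = 1`, all of whose fixed points
have odd order is soluble.
-/

set_option autoImplicit false
set_option linter.unusedSectionVars false
set_option linter.style.haveILetI false

namespace Cfsg.Agent.ThreeFpf

open Subgroup

universe u

/-- The join of a soluble normal and a soluble subgroup. -/
theorem isSolvable_join {G : Type u} [Group G] (H K : Subgroup G) [H.Normal] [Group.IsSolvable H]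
    [Group.IsSolvable K] : Group.IsSolvable ↥(H ⊔ K) := by
  let f : ↥(H ⊔ K) →* G ⧸ H := (QuotientGroup.mk' H).comp (H ⊔ K).subtype
  haveI : Group.IsSolvable (K.map (QuotientGroup.mk' H)) :=
    Group.isSolvable_of_surjective ((QuotientGroup.mk' H).subgroupMap_surjective K)
  have hr : ∀ z, f z ∈ K.map (QuotientGroup.mk' H) := by
    intro z
    have he : (H ⊔ K).map (QuotientGroup.mk' H) = K.map (QuotientGroup.mk' H) := by
      rw [Subgroup.map_sup, QuotientGroup.map_mk'_self, bot_sup_eq]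
    exact he ▸ mem_map_of_mem _ z.2
  refine Group.isSolvable_of_ker_le_range (Subgroup.inclusion (le_sup_left : H ≤ H ⊔ K))
    (f.codRestrict _ hr) fun z hz => ?_
  exact ⟨⟨z, (QuotientGroup.eq_one_iff _).1 (congrArg Subtype.val hz)⟩, rfl⟩

variable {G : Type u} [Group G] [Finite G] {σ : MulAut G}

/-- A minimal normal subgroup with disjoint translates is soluble. -/
theorem Act.solvable_minimal (h : Act σ) {N : Subgroup G} [hN : N.Normal]
    (hmin : ∀ W : Subgroup G, W.Normal → W ≤ N → W = ⊥ ∨ W = N)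
    (hNσ : ¬ Inv σ N) : Group.IsSolvable N := by
  haveI : Fact (Nat.Prime 2) := ⟨Nat.prime_two⟩
  by_cases h2 : 2 ∣ Nat.card N
  swap
  · exact S0205.result (Nat.odd_iff.2 (Nat.two_dvd_ne_zero.1 h2))
  obtain ⟨x, hx⟩ := exists_prime_orderOf_dvd_card' (G := N) 2 h2
  haveI : (N.map σ.toMonoidHom).Normal := hN.map _ σ.surjective
  have hdis : ∀ a ∈ N, σ a ∈ N → a = 1 := by
    intro a ha hσa
    rcases hmin (N ⊓ N.map σ.toMonoidHom) inferInstance inf_le_left with e | e
    · have : σ a ∈ N ⊓ N.map σ.toMonoidHom := ⟨hσa, mem_map_of_mem σ.toMonoidHom ha⟩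
      rw [e, mem_bot] at this
      exact σ.injective (this.trans (map_one σ).symm)
    · refine absurd ((inv_iff_map_eq h).2 ?_) hNσ
      exact (eq_of_le_of_card_ge (inf_eq_left.1 e) (card_map_of_injective σ.injective).le).symm
  have hcomm : ∀ a ∈ N, ∀ b ∈ N, a * σ b = σ b * a := by
    intro a ha b hb
    have h1 : a * σ b * a⁻¹ * (σ b)⁻¹ ∈ N := by
      rw [mul_assoc, mul_assoc]
      exact mul_mem ha (by rw [← mul_assoc]; exact hN.conj_mem _ (inv_mem ha) _)
    have h2 : a * σ b * a⁻¹ * (σ b)⁻¹ ∈ N.map σ.toMonoidHom :=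
      mul_mem ((inferInstance : (N.map σ.toMonoidHom).Normal).conj_mem _
        (mem_map_of_mem σ.toMonoidHom hb) a) (inv_mem (mem_map_of_mem σ.toMonoidHom hb))
    obtain ⟨w, hw, hwe⟩ := h2
    have hwe' : σ w = a * σ b * a⁻¹ * (σ b)⁻¹ := hwe
    rw [hdis w hw (hwe' ▸ h1), map_one] at hwe'
    exact mul_inv_eq_iff_eq_mul.1 (mul_inv_eq_one.1 hwe'.symm)
  have hcomm2 : ∀ a ∈ N, ∀ b ∈ N, a * σ (σ b) = σ (σ b) * a := by
    intro a ha b hb
    have := congrArg (fun y => σ (σ y)) (hcomm b hb a ha)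
    simp only [map_mul, h.three] at this
    exact this.symm
  set y : G := x * σ x * σ (σ x) with hy
  have c1 := hcomm x x.2 x x.2
  have c2 := hcomm2 x x.2 x x.2
  have c3 : σ x * σ (σ x) = σ (σ x) * σ x := by rw [← map_mul, c1, map_mul]
  have hfix : σ y = y := by
    rw [hy, map_mul, map_mul, h.three, mul_assoc _ (σ (σ (x : G))), ← c2, ← mul_assoc, ← c1]
  have hx2 : (x : G) * x = 1 := by
    have := congrArg Subtype.val (pow_orderOf_eq_one x)
    rwa [hx, coe_pow, pow_two] at this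
  have hy2 : y ^ 2 = 1 := by
    have s1 : σ (x : G) * σ x = 1 := by rw [← map_mul, hx2, map_one]
    have s2 : σ (σ (x : G)) * σ (σ x) = 1 := by rw [← map_mul, s1, map_one]
    have k1 : Commute (x : G) (σ x) := c1
    have k2 : Commute (x : G) (σ (σ x)) := c2
    have k3 : Commute (σ (x : G)) (σ (σ x)) := c3
    rw [hy, (k2.mul_left k3).mul_pow, k1.mul_pow, pow_two, pow_two, pow_two, hx2, s1, s2, one_mul,
      one_mul]
  have hy1 : y = 1 := h.eq_one_of_fixed (k := 1) hfix (by rwa [pow_one])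
  -- `x` is central in `N`
  have hxZ : (x : G) ∈ centralizer (N : Set G) := mem_centralizer_iff.2 fun a ha => by
    have he : (x : G) = (σ x * σ (σ x))⁻¹ := eq_inv_of_mul_eq_one_left (by rw [← mul_assoc, ← hy, hy1])
    rw [he]
    have k1 : Commute a (σ (x : G)) := hcomm a ha x x.2
    have k2 : Commute a (σ (σ (x : G))) := hcomm2 a ha x x.2
    exact (k1.mul_right k2).inv_right.eq
  rcases hmin (N ⊓ centralizer (N : Set G)) inferInstance inf_le_left with e | e
  · have : (x : G) ∈ N ⊓ centralizer (N : Set G) := ⟨x.2, hxZ⟩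
    rw [e, mem_bot, OneMemClass.coe_eq_one] at this
    rw [this, orderOf_one] at hx
    omega
  · exact Group.isSolvable_of_comm fun a b => Subtype.ext
      (mem_centralizer_iff.1 (inf_eq_left.1 e b.2) a a.2)

/-- **Solubility.** -/
theorem Act.isSolvable (h : Act σ) : Group.IsSolvable G := by
  suffices H : ∀ (n : ℕ) {G : Type u} [Group G] [Finite G] {σ : MulAut G}, Act σ → Nat.card G = n →
      Group.IsSolvable G from H _ h rfl
  intro n
  induction n using Nat.strong_induction_on with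
  | _ n ih =>
  intro G _ _ σ h hn
  have hsub : ∀ H : Subgroup G, Inv σ H → H ≠ ⊤ → Group.IsSolvable H := fun H hH hne => by
    obtain ⟨τ, hτ, -⟩ := h.sub hH
    exact ih _ (hn ▸ lt_of_le_of_ne H.card_le_card_group (fun e => hne (H.eq_top_of_card_eq e))) hτ rfl
  by_cases hinv : ∃ N : Subgroup G, N.Normal ∧ Inv σ N ∧ N ≠ ⊥ ∧ N ≠ ⊤
  · obtain ⟨N, hN, hNi, hb, ht⟩ := hinv
    haveI := hN
    haveI := hsub N hNi ht
    obtain ⟨τ, hτ, -⟩ := h.quot hNi
    have hlt : Nat.card (G ⧸ N) < n := by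
      rw [← hn, ← N.index_mul_card, ← Subgroup.index_eq_card]
      exact lt_mul_of_one_lt_right (Nat.pos_of_ne_zero index_ne_zero_of_finite)
        ((one_lt_card_iff_ne_bot N).2 hb)
    haveI := ih _ hlt hτ rfl
    exact Group.isSolvable_of_ker_le_range N.subtype (QuotientGroup.mk' N)
      (by rw [QuotientGroup.ker_mk', range_subtype])
  rcases subsingleton_or_nontrivial G with hS | hS
  · exact Group.isSolvable_of_comm fun a b => Subsingleton.elim _ _
  by_cases hsimp : IsSimpleGroup G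
  · by_contra hns
    exact Cex.false ⟨h, hsimp, hns, hsub⟩
  have hex : ∃ N : Subgroup G, N.Normal ∧ N ≠ ⊥ ∧ N ≠ ⊤ := by
    by_contra hno
    push Not at hno
    exact hsimp { eq_bot_or_eq_top_of_normal := fun N hN => or_iff_not_imp_left.2 (hno N hN) }
  obtain ⟨N, ⟨hN, hb, ht⟩, hmin⟩ := (Set.toFinite
    {W : Subgroup G | W.Normal ∧ W ≠ ⊥ ∧ W ≠ ⊤}).exists_minimal hex
  haveI := hN
  have hNσ : ¬ Inv σ N := fun hi => hinv ⟨N, hN, hi, hb, ht⟩
  haveI := h.solvable_minimal (fun W hW hWN => or_iff_not_imp_left.2 fun hW1 =>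
    le_antisymm hWN (hmin ⟨hW, hW1, ne_top_of_le_ne_top ht hWN⟩ hWN)) hNσ
  set N₁ := N.map σ.toMonoidHom with hN₁
  set N₂ := N₁.map σ.toMonoidHom with hN₂
  haveI : N₁.Normal := hN.map _ σ.surjective
  haveI : N₂.Normal := (inferInstance : N₁.Normal).map _ σ.surjective
  haveI : Group.IsSolvable N₁ :=
    Group.isSolvable_of_surjective (σ.toMonoidHom.subgroupMap_surjective N)
  haveI : Group.IsSolvable N₂ :=
    Group.isSolvable_of_surjective (σ.toMonoidHom.subgroupMap_surjective N₁)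
  haveI := isSolvable_join N N₁
  haveI := isSolvable_join (N ⊔ N₁) N₂
  have h3 : N₂.map σ.toMonoidHom = N := by
    rw [hN₂, hN₁, map_map, map_map]
    convert map_id N
    exact MonoidHom.ext h.three
  have hJ : N ⊔ N₁ ⊔ N₂ = ⊤ := by
    by_contra hne
    refine hinv ⟨_, inferInstance, (inv_iff_map_eq h).2 ?_, fun e => hb ?_, hne⟩
    · rw [Subgroup.map_sup, Subgroup.map_sup, h3, ← hN₁, ← hN₂, sup_comm (N₁ ⊔ N₂) N, sup_assoc]
    · exact le_bot_iff.1 (e ▸ le_sup_left.trans le_sup_left)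
  exact Group.isSolvable_of_surjective (f := (N ⊔ N₁ ⊔ N₂).subtype)
    fun g => ⟨⟨g, hJ ▸ mem_top g⟩, rfl⟩

end Cfsg.Agent.ThreeFpf
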