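import Cfsg.Agent.Lib.ThreeFpf.Basic
import Cfsg.Agent.Lib.CoprimeLayer.Irreducible
import Cfsg.Agent.Lib.Coprime.Stabilize
import Cfsg.Agent.S3041

/-!
# An invariant odd subgroup acting on an invariant 2-subgroup

`l⁻¹ σ(l)` centralises the 2-subgroup: the module case is S3041 (`[G, R]` is trivial or a 2-group).
-/

set_option autoImplicit false
set_option linter.unusedSectionVars false
set_option linter.style.haveILetI false

namespace Cfsg.Agent.ThreeFpf

open Subgroup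
open scoped commutatorElement

universe u

/-- The module case in `Aut V`. -/
theorem commute_of_irreducible {V : Type u} [CommGroup V] [Finite V] [Nontrivial V]
    (hexp : ∀ v : V, v ^ 2 = 1) (Γ : Subgroup (MulAut V)) (G R : Subgroup ↥Γ) [G.Normal]
    (hGR : G ⊔ R = ⊤) (hR : Nat.card R = 3) (h3 : ¬ 3 ∣ Nat.card G) (hodd : Odd (Nat.card G))
    (hirr : ∀ W : Subgroup V, (∀ g ∈ Γ, ∀ w ∈ W, g w ∈ W) → W = ⊥ ∨ W = ⊤)
    (hfix : ∀ v : V, (∀ x ∈ R, (x : MulAut V) v = v) → v = 1) : ⁅G, R⁆ = ⊥ := by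
  haveI : Fact (Nat.Prime 2) := ⟨Nat.prime_two⟩
  letI md : Module (ZMod 2) (Additive V) := AddCommGroup.zmodModule fun x => by
    apply Additive.toMul.injective
    exact hexp _
  haveI : Module.Finite (ZMod 2) (Additive V) := Module.Finite.of_finite
  haveI : Nontrivial (Additive V) := inferInstanceAs (Nontrivial V)
  let ρ : Representation (ZMod 2) ↥Γ (Additive V) := by
    exact (CoprimeLayer.endHom 2 V).comp Γ.subtype
  rcases Cfsg.Agent.S3041.result G R hGR 3 Nat.prime_three hR h3 ρ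
    (fun g g' e => Subtype.ext (MulEquiv.ext fun v =>
      Additive.ofMul.injective (LinearMap.congr_fun e (Additive.ofMul v))))
    (fun W hW => by
      let Wy : Subgroup V := AddSubgroup.toSubgroup' W.toAddSubgroup
      rcases hirr Wy fun g hg w hw => hW ⟨g, hg⟩ (Submodule.mem_map_of_mem hw) with e | e
      · left
        refine (Submodule.eq_bot_iff _).2 fun v hv => ?_
        have h1 : Additive.toMul v ∈ Wy := hv
        rw [e, Subgroup.mem_bot] at h1
        exact Additive.toMul.injective h1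
      · right
        exact Submodule.eq_top_iff'.2 fun v => e.ge (Subgroup.mem_top (Additive.toMul v)))
    (fun v hv => Additive.toMul.injective (hfix _ fun x hx => Additive.ofMul.injective (hv x hx)))
    with h | ⟨-, hna, hsp⟩
  · exact h
  · exfalso
    apply hna
    obtain ⟨k, hk⟩ := IsPGroup.iff_card.1 hsp.1
    have hle : ⁅G, R⁆ ≤ G := commutator_le_left G R
    have hdvd : 2 ^ k ∣ Nat.card G := hk ▸ card_dvd_of_le hle
    rcases Nat.eq_zero_or_pos k with rfl | hpos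
    · haveI := (Nat.card_eq_one_iff_unique.1 (hk.trans (pow_zero 2))).1
      exact ⟨⟨fun a b => Subsingleton.elim _ _⟩⟩
    · exact absurd (hodd.of_dvd_nat ((dvd_pow_self 2 hpos.ne').trans hdvd)) (by decide)

variable {G : Type u} [Group G] {σ : MulAut G}

omit [Group G] in
theorem odd_natCard_of_dvd {m n : ℕ} (hn : Odd n) (h : m ∣ n) : Odd m := hn.of_dvd_nat h

/-- A minimal invariant elementary abelian subgroup is centralised. -/
theorem commute_of_minimal [Finite G] (h : Act σ) {L N : Subgroup G} (hL : Inv σ L) (hN : Inv σ N)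
    (hLodd : Odd (Nat.card L)) (hLN : L ≤ normalizer (N : Set G))
    (hab : ∀ a ∈ N, ∀ b ∈ N, a * b = b * a) (hsq : ∀ a ∈ N, a * a = 1)
    (hmin : ∀ W ≤ N, Inv σ W → L ≤ normalizer (W : Set G) → W = ⊥ ∨ W = N) :
    ∀ l ∈ L, ∀ y ∈ N, Commute (l⁻¹ * σ l) y := by
  classical
  rcases eq_or_ne N ⊥ with rfl | hN1
  · intro l _ y hy
    rw [mem_bot.1 hy]
    exact Commute.one_right _
  letI : CommGroup ↥N :=
    { (inferInstance : Group ↥N) with mul_comm := fun a b => Subtype.ext (hab _ a.2 _ b.2) }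
  haveI : Nontrivial ↥N := (nontrivial_iff_ne_bot N).mpr hN1
  set ψ : ↥L →* MulAut ↥N := (N.normalizerMonoidHom).comp (inclusion hLN) with hψdef
  have hψ : ∀ (l : L) (y : N), ((ψ l y : N) : G) = l * y * (l : G)⁻¹ := fun l y => rfl
  set s : MulAut ↥N := (σ.subgroupMap N).trans (MulEquiv.subgroupCongr (hN.map_eq h)) with hsdef
  have hs : ∀ y : N, ((s y : N) : G) = σ y := fun y => rfl
  have hs3 : s ^ 3 = 1 := MulEquiv.ext fun y => Subtype.ext (by
    show σ (σ (σ (y : G))) = y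
    exact h.three _)
  have hfix : ∀ y : N, s y = y → y = 1 := fun y hy => Subtype.ext
    (h.eq_one_of_fixed (k := 1) (congrArg Subtype.val hy)
      (by rw [pow_one, pow_two]; exact hsq _ y.2))
  have hs1 : s ≠ 1 := fun e => by
    obtain ⟨y, hy⟩ := exists_ne (1 : ↥N)
    exact hy (hfix y (by rw [e]; rfl))
  haveI : Fact (Nat.Prime 3) := ⟨Nat.prime_three⟩
  have hos : orderOf s = 3 := orderOf_eq_prime hs3 hs1
  have hconj : ∀ l : L, s * ψ l * s⁻¹ = ψ ⟨σ l, hL _ l.2⟩ := fun l => by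
    rw [mul_inv_eq_iff_eq_mul]
    refine MulEquiv.ext fun y => Subtype.ext ?_
    show σ ((l : G) * y * (l : G)⁻¹) = σ l * σ y * (σ l)⁻¹
    rw [map_mul, map_mul, map_inv]
  set Γ := ψ.range ⊔ zpowers s with hΓ
  set Gb := ψ.range.subgroupOf Γ with hGb
  set Rb := (zpowers s).subgroupOf Γ with hRb
  have hΓn : Γ ≤ normalizer (ψ.range : Set (MulAut ↥N)) := by
    refine sup_le le_normalizer (zpowers_le.2 (mem_normalizer_fintype ?_))
    rintro _ ⟨l, rfl⟩
    exact ⟨_, (hconj l).symm⟩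
  haveI : Gb.Normal := Coprime.normal_subgroupOf_of_le_normalizer hΓn
  have hGcard : Nat.card Gb ∣ Nat.card L := by
    rw [hGb, Nat.card_congr (subgroupOfEquivOfLe le_sup_left).toEquiv]
    exact card_range_dvd ψ
  have hcomm : ⁅Gb, Rb⁆ = ⊥ := by
    refine commute_of_irreducible (V := ↥N) (fun v => Subtype.ext ?_) Γ Gb Rb ?_ ?_ ?_ ?_ ?_ ?_
    · show (v : G) ^ 2 = 1
      rw [pow_two]; exact hsq _ v.2
    · rw [hGb, hRb, ← subgroupOf_sup le_sup_left le_sup_right, subgroupOf_self]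
    · rw [hRb, Nat.card_congr (subgroupOfEquivOfLe le_sup_right).toEquiv, Nat.card_zpowers, hos]
    · exact fun hd => h.ndvd ((hd.trans hGcard).trans (card_subgroup_dvd_card L))
    · exact hLodd.of_dvd_nat hGcard
    · intro W hW
      have hWN : W.map N.subtype ≤ N := map_subtype_le _
      have hinv : Inv σ (W.map N.subtype) := by
        rintro _ ⟨w, hw, rfl⟩
        exact ⟨s w, hW s (mem_sup_right (mem_zpowers s)) w hw, rfl⟩
      have hn : L ≤ normalizer ((W.map N.subtype : Subgroup G) : Set G) := fun l hl =>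
        mem_normalizer_fintype fun y hy => by
          obtain ⟨w, hw, rfl⟩ := hy
          exact ⟨ψ ⟨l, hl⟩ w, hW _ (mem_sup_left ⟨_, rfl⟩) w hw, rfl⟩
      rcases hmin _ hWN hinv hn with e | e
      · exact Or.inl ((Subgroup.map_eq_bot_iff_of_injective _ N.subtype_injective).1 e)
      · refine Or.inr (map_injective N.subtype_injective ?_)
        rw [e, ← MonoidHom.range_eq_map, range_subtype]
    · intro v hv
      exact hfix v (hv ⟨s, mem_sup_right (mem_zpowers s)⟩ (mem_zpowers s))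
  intro l hl y hy
  have hsmem : (⟨s, mem_sup_right (mem_zpowers s)⟩ : ↥Γ) ∈ Rb := mem_zpowers s
  have hlmem : (⟨ψ ⟨l, hl⟩, mem_sup_left ⟨_, rfl⟩⟩ : ↥Γ) ∈ Gb := ⟨_, rfl⟩
  have h1 := commutator_mem_commutator hlmem hsmem
  rw [hcomm, mem_bot, commutatorElement_eq_one_iff_mul_comm] at h1
  have h2 : ψ ⟨l, hl⟩ * s = s * ψ ⟨l, hl⟩ := congrArg Subtype.val h1
  have h3 : ψ ⟨σ l, hL _ hl⟩ = ψ ⟨l, hl⟩ := by
    rw [← hconj ⟨l, hl⟩, ← h2, mul_inv_cancel_right]
  have h4 : σ l * y * (σ l)⁻¹ = l * y * l⁻¹ :=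
    congrArg (fun f : MulAut ↥N => ((f ⟨y, hy⟩ : N) : G)) h3
  have h5 : l⁻¹ * (σ l * y * (σ l)⁻¹) * σ l = l⁻¹ * (l * y * l⁻¹) * σ l := by rw [h4]
  show l⁻¹ * σ l * y = y * (l⁻¹ * σ l)
  calc l⁻¹ * σ l * y = l⁻¹ * (σ l * y * (σ l)⁻¹) * σ l := by group
    _ = l⁻¹ * (l * y * l⁻¹) * σ l := h5
    _ = y * (l⁻¹ * σ l) := by group

/-- The displacement centralises the 2-subgroup. -/
theorem commute_displacement : ∀ (n : ℕ) {G : Type u} [Group G] [Finite G] {σ : MulAut G} (_ : Act σ)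
    {L Y : Subgroup G}, Nat.card Y = n → Inv σ L → Inv σ Y → Odd (Nat.card L) → IsPGroup 2 Y →
    L ≤ normalizer (Y : Set G) → ∀ l ∈ L, ∀ y ∈ Y, Commute (l⁻¹ * σ l) y := by
  intro n
  induction n using Nat.strong_induction_on with
  | _ n ih =>
  intro G _ _ σ h L Y hn hL hY hLodd hY2 hLY l hl y hy
  haveI : Fact (Nat.Prime 2) := ⟨Nat.prime_two⟩
  rcases eq_or_ne Y ⊥ with rfl | hY1
  · rw [mem_bot.1 hy]
    exact Commute.one_right _
  -- the central elements of order two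
  let Ω : Subgroup G :=
    { carrier := {x | x ∈ Y ∧ x * x = 1 ∧ ∀ z ∈ Y, x * z = z * x}
      one_mem' := ⟨one_mem _, mul_one 1, fun z _ => by simp⟩
      mul_mem' := fun {a b} ha hb => ⟨mul_mem ha.1 hb.1, by
        rw [mul_assoc, ← mul_assoc b a b, ← ha.2.2 b hb.1, mul_assoc a b b, hb.2.1, mul_one, ha.2.1],
        fun z hz => by rw [mul_assoc, hb.2.2 z hz, ← mul_assoc, ha.2.2 z hz, mul_assoc]⟩
      inv_mem' := fun {a} ha => by
        rw [inv_eq_of_mul_eq_one_right ha.2.1]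
        exact ha }
  have hΩinv : Inv σ Ω := fun x hx => ⟨hY x hx.1, by rw [← map_mul, hx.2.1, map_one], fun z hz => by
    have := congrArg σ (hx.2.2 (σ (σ z)) (hY _ (hY _ hz)))
    rwa [map_mul, map_mul, h.three] at this⟩
  have hΩL : L ≤ normalizer (Ω : Set G) := fun g hg => mem_normalizer_fintype fun x hx => by
    obtain ⟨hx1, hx2, hx3⟩ := hx
    refine ⟨(mem_normalizer_iff.1 (hLY hg) x).1 hx1, ?_, fun z hz => ?_⟩
    · calc g * x * g⁻¹ * (g * x * g⁻¹) = g * (x * x) * g⁻¹ := by group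
        _ = 1 := by rw [hx2, mul_one, mul_inv_cancel]
    · have h1 : g⁻¹ * z * g ∈ Y := (mem_normalizer_iff''.1 (hLY hg) z).1 hz
      calc g * x * g⁻¹ * z = g * (x * (g⁻¹ * z * g)) * g⁻¹ := by group
        _ = g * ((g⁻¹ * z * g) * x) * g⁻¹ := by rw [hx3 _ h1]
        _ = z * (g * x * g⁻¹) := by group
  have hΩ1 : Ω ≠ ⊥ := by
    haveI := (nontrivial_iff_ne_bot Y).2 hY1
    haveI := hY2.center_nontrivial
    obtain ⟨k, hk, hc⟩ := (hY2.to_subgroup (center ↥Y)).nontrivial_iff_card.mp inferInstance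
    obtain ⟨z, hz⟩ := exists_prime_orderOf_dvd_card' (G := center ↥Y) 2 (hc ▸ dvd_pow_self 2 hk.ne')
    intro e
    have hzΩ : ((z : ↥Y) : G) ∈ Ω := ⟨(z : ↥Y).2, by
        rw [← pow_two, ← hz]
        exact congrArg (fun w : center ↥Y => ((w : ↥Y) : G)) (pow_orderOf_eq_one z),
      fun w hw => (congrArg Subtype.val (mem_center_iff.1 z.2 ⟨w, hw⟩)).symm⟩
    rw [e, mem_bot, OneMemClass.coe_eq_one, OneMemClass.coe_eq_one] at hzΩ
    rw [hzΩ, orderOf_one] at hz
    omega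
  obtain ⟨N, ⟨hN1, hNΩ, hN, hLN⟩, hmin⟩ := (Set.toFinite
    {W : Subgroup G | W ≠ ⊥ ∧ W ≤ Ω ∧ Inv σ W ∧ L ≤ normalizer (W : Set G)}).exists_minimal
    ⟨Ω, hΩ1, le_rfl, hΩinv, hΩL⟩
  have hNY : N ≤ Y := fun x hx => (hNΩ hx).1
  have hmid : ∀ a ∈ L, ∀ b ∈ N, Commute (a⁻¹ * σ a) b := commute_of_minimal h hL hN hLodd hLN
    (fun a ha b hb => (hNΩ ha).2.2 b (hNY hb)) (fun a ha => (hNΩ ha).2.1)
    (fun W hW hWi hWL => or_iff_not_imp_left.2 fun hW1 =>
      le_antisymm hW (hmin ⟨hW1, hW.trans hNΩ, hWi, hWL⟩ hW))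
  -- pass to the normaliser of `N` modulo `N`
  set M := normalizer (N : Set G) with hM
  have hMinv : Inv σ M := fun g hg => mem_normalizer_fintype fun x hx => by
    have h1 : σ (σ x) ∈ N := hN _ (hN _ hx)
    have := hN _ ((mem_normalizer_iff.1 hg _).1 h1)
    rwa [map_mul, map_mul, map_inv, h.three] at this
  obtain ⟨τ, hτ, hτv⟩ := h.sub hMinv
  set N' := N.subgroupOf M with hN'
  haveI : N'.Normal := normal_in_normalizer
  have hN'inv : Inv τ N' := fun x hx => by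
    show ((τ x : M) : G) ∈ N
    rw [hτv]; exact hN _ hx
  obtain ⟨τ₁, hτ₁, hτ₁v⟩ := hτ.quot hN'inv
  set q := QuotientGroup.mk' N' with hq
  have hYM : Y ≤ M := fun z hz => mem_normalizer_fintype fun x hx => by
    rw [← (hNΩ hx).2.2 z hz, mul_inv_cancel_right]; exact hx
  have hLM : L ≤ M := hLN
  have hmapinv : ∀ W : Subgroup G, Inv σ W → Inv τ₁ ((W.subgroupOf M).map q) := by
    rintro W hW _ ⟨x, hx, rfl⟩
    refine ⟨τ x, ?_, (hτ₁v x).symm⟩
    show ((τ x : M) : G) ∈ W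
    rw [hτv]; exact hW _ hx
  have hlt : Nat.card ((Y.subgroupOf M).map q) < n := by
    rw [← hn]
    have hc := (q.comp (Y.subgroupOf M).subtype).ker.index_mul_card
    rw [Subgroup.index_ker] at hc
    rw [MonoidHom.range_comp, range_subtype, Nat.card_congr (subgroupOfEquivOfLe hYM).toEquiv] at hc
    have hker : 1 < Nat.card (q.comp (Y.subgroupOf M).subtype).ker := by
      obtain ⟨x, hx, hx1⟩ := N.ne_bot_iff_exists_ne_one.1 hN1 |> fun ⟨x, hx⟩ =>
        (⟨x.1, x.2, fun e => hx (Subtype.ext e)⟩ : ∃ x, x ∈ N ∧ x ≠ 1)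
      refine (one_lt_card_iff_ne_bot _).2 fun e => hx1 ?_
      have hmem : (⟨⟨x, hYM (hNY hx)⟩, hNY hx⟩ : ↥(Y.subgroupOf M)) ∈
          (q.comp (Y.subgroupOf M).subtype).ker := (QuotientGroup.eq_one_iff _).2 hx
      rw [e, mem_bot] at hmem
      exact congrArg (fun w : ↥(Y.subgroupOf M) => ((w : M) : G)) hmem
    rw [← hc]
    exact lt_mul_of_one_lt_right Nat.card_pos hker
  have hLq : Odd (Nat.card ((L.subgroupOf M).map q)) := hLodd.of_dvd_nat
    ((card_map_dvd _ q).trans (Nat.card_congr (subgroupOfEquivOfLe hLM).toEquiv).dvd)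
  have hLY' : (L.subgroupOf M).map q ≤ normalizer (((Y.subgroupOf M).map q : Subgroup _) : Set _) := by
    refine (map_mono ?_).trans (le_normalizer_map q)
    intro g hg
    refine mem_normalizer_fintype fun x hx => ?_
    exact (mem_normalizer_iff.1 (hLY hg) (x : G)).1 hx
  have key := ih _ hlt hτ₁ rfl (hmapinv L hL) (hmapinv Y hY) hLq
    ((hY2.comap_of_injective M.subtype M.subtype_injective).map q) hLY'
    (q ⟨l, hLM hl⟩) (mem_map_of_mem q hl) (q ⟨y, hYM hy⟩) (mem_map_of_mem q hy)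
  set w := l⁻¹ * σ l with hw
  have hwL : w ∈ L := mul_mem (inv_mem hl) (hL _ hl)
  have e1 : (q ⟨l, hLM hl⟩)⁻¹ * τ₁ (q ⟨l, hLM hl⟩) = q ⟨w, hLM hwL⟩ := by
    rw [hτ₁v, ← map_inv, ← map_mul]
    refine congrArg q (Subtype.ext ?_)
    rw [coe_mul, coe_inv, hτv]
  rw [e1] at key
  have h1 : w * y * w⁻¹ * y⁻¹ ∈ N := by
    have h2 : q (⟨w, hLM hwL⟩ * ⟨y, hYM hy⟩ * (⟨w, hLM hwL⟩)⁻¹ * (⟨y, hYM hy⟩)⁻¹) = 1 := by
      rw [map_mul, map_mul, map_mul, map_inv, map_inv, key.eq, mul_inv_cancel_right, mul_inv_cancel]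
    exact ((QuotientGroup.eq_one_iff _).1 h2 :)
  refine Coprime.commute_of_translate (z := w * y * w⁻¹ * y⁻¹) (by group) (hmid l hl _ h1) ?_
  obtain ⟨j, hj⟩ := IsPGroup.iff_orderOf.1 hY2 ⟨_, hNY h1⟩
  rw [orderOf_mk] at hj
  rw [hj]
  exact Nat.Coprime.pow_right j (Nat.coprime_two_right.2 (hLodd.of_dvd_nat (orderOf_dvd_natCard L hwL)))

end Cfsg.Agent.ThreeFpf
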