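import Cfsg.Agent.Lib.ThreeFpf.Shult
import Cfsg.Agent.Lib.PCore.HallHigman
import Cfsg.Agent.Lib.PCore.UpperSeries
import Cfsg.Agent.Lib.PCore.Constrained
import Cfsg.Agent.Lib.Components.Fitting

/-!
# The soluble case

`O_{2',2}(G)` has odd index and every element is a product of one of its elements and a fixed point;
consequently fusion in an invariant Sylow 2-subgroup `T` is induced by `T` and fixed points normalising `T`.
-/

set_option autoImplicit false
set_option linter.unusedSectionVars false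
set_option linter.style.haveILetI false

namespace Cfsg.Agent.ThreeFpf

open Subgroup
open Cfsg (pCore pPrimeCore pPrimePCore)
open scoped commutatorElement

universe u

variable {G : Type u} [Group G] [Finite G] {σ : MulAut G}

theorem Act.inv_pCore (h : Act σ) (p : ℕ) : Inv σ (pCore p G) :=
  (inv_iff_map_eq h).2 (PCore.map_pCore_mulEquiv σ)

theorem Act.inv_pPrimeCore (h : Act σ) (p : ℕ) : Inv σ (pPrimeCore p G) :=
  (inv_iff_map_eq h).2 (PCore.map_pPrimeCore_mulEquiv σ)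

theorem Act.inv_normalizer (h : Act σ) {N : Subgroup G} (hN : Inv σ N) :
    Inv σ (normalizer (N : Set G)) := fun g hg => mem_normalizer_fintype fun x hx => by
  have := hN _ ((mem_normalizer_iff.1 hg _).1 (hN _ (hN _ hx)))
  rwa [map_mul, map_mul, map_inv, h.three] at this

/-- With trivial odd core `G = O₂(G) C(σ)`. -/
theorem Act.struct_of_core_eq_bot (h : Act σ) [Group.IsSolvable G] (hO : pPrimeCore 2 G = ⊥) :
    (∀ g : G, ∃ c : G, σ c = c ∧ c⁻¹ * g ∈ pCore 2 G) ∧ ¬ 2 ∣ (pCore 2 G).index := by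
  haveI : Fact (Nat.Prime 2) := ⟨Nat.prime_two⟩
  set Q := pCore 2 G with hQ
  have hC : centralizer (Q : Set G) ≤ Q := PCore.centralizer_pCore_le_of_isSolvable hO
  have hQi : Inv σ Q := h.inv_pCore 2
  obtain ⟨τ, hτ, hτv⟩ := h.quot hQi
  set π := QuotientGroup.mk' Q with hπ
  have h2 : pCore 2 (G ⧸ Q) = ⊥ := PCore.pCore_quotient_self_eq_bot
  -- `τ` centralises every primary core of the quotient
  have hp : ∀ p : ℕ, p.Prime → ∀ x ∈ pCore p (G ⧸ Q), τ x = x := by
    intro p hp x hx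
    haveI := Fact.mk hp
    by_cases hp2 : p = 2
    · subst hp2
      rw [h2, mem_bot] at hx
      rw [hx, map_one]
    set K := (pCore p (G ⧸ Q)).comap π with hK
    have hKi : Inv σ K := fun y hy => by
      show π (σ y) ∈ pCore p (G ⧸ Q)
      rw [← hτv]
      exact hτ.inv_pCore p _ hy
    obtain ⟨σK, hσK, hσKv⟩ := h.sub hKi
    obtain ⟨P, hP⟩ := hσK.exists_inv_sylow p
    have hres : Function.Surjective (π.subgroupComap (pCore p (G ⧸ Q))) := fun y => by
      obtain ⟨g, hg⟩ := QuotientGroup.mk'_surjective Q (y : G ⧸ Q)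
      exact ⟨⟨g, show π g ∈ _ by rw [show π g = y from hg]; exact y.2⟩, Subtype.ext hg⟩
    have htop : (P : Subgroup K).map (π.subgroupComap (pCore p (G ⧸ Q))) = ⊤ := by
      have h1 : (P.mapSurjective hres).toSubgroup = ⊤ :=
        ((P.mapSurjective hres).is_maximal' (PCore.isPGroup_top_iff.2 (PCore.isPGroup_pCore)) le_top).symm
      exact h1
    set L := (P : Subgroup K).map K.subtype with hL
    have hLinv : Inv σ L := by
      rintro _ ⟨y, hy, rfl⟩
      exact ⟨σK y, hP y hy, hσKv y⟩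
    have hLodd : Odd (Nat.card L) := by
      obtain ⟨k, hk⟩ := IsPGroup.iff_card.1 (P.isPGroup'.map K.subtype)
      rw [hL, hk]
      exact (hp.odd_of_ne_two hp2).pow
    have key := commute_displacement (Nat.card Q) h rfl hLinv hQi hLodd PCore.isPGroup_pCore
      ((normalizer_eq_top (H := Q) ▸ le_top : L ≤ normalizer (Q : Set G)))
    obtain ⟨y, hy, hyx⟩ : (⟨x, hx⟩ : ↥(pCore p (G ⧸ Q))) ∈
        (P : Subgroup K).map (π.subgroupComap (pCore p (G ⧸ Q))) := htop ▸ mem_top _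
    have hxy : π y.1 = x := congrArg Subtype.val hyx
    have hw : (y.1)⁻¹ * σ y.1 ∈ Q :=
      hC (mem_centralizer_iff.2 fun q hq => (key _ (mem_map_of_mem K.subtype hy) q hq).symm.eq)
    rw [← hxy, hτv]
    exact (QuotientGroup.eq.2 hw).symm
  haveI : Group.IsSolvable (G ⧸ Q) := inferInstance
  have hF : ∀ x ∈ Cfsg.fittingSubgroup (G ⧸ Q), τ x = x := by
    intro x hx
    have hle : Cfsg.fittingSubgroup (G ⧸ Q) ≤ Cfsg.fixedSubgroup τ := by
      rw [Components.fittingSubgroup_eq_iSup_pCore]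
      exact iSup_le fun p => hp p (Nat.prime_of_mem_primeFactors p.2)
    exact hle hx
  have hall : ∀ x : G ⧸ Q, τ x = x := by
    intro x
    set f := x⁻¹ * τ x with hf
    have hfF : f ∈ Cfsg.fittingSubgroup (G ⧸ Q) := by
      refine Components.centralizer_fittingSubgroup_le (mem_centralizer_iff.2 fun z hz => ?_)
      have hn : (Cfsg.fittingSubgroup (G ⧸ Q)).Normal := inferInstance
      have h1 : x * z * x⁻¹ = τ x * z * (τ x)⁻¹ := by
        have := hF _ (hn.conj_mem z hz x)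
        rw [map_mul, map_mul, map_inv, hF z hz] at this
        exact this.symm
      calc z * f = x⁻¹ * (x * z * x⁻¹) * τ x := by rw [hf]; group
        _ = x⁻¹ * (τ x * z * (τ x)⁻¹) * τ x := by rw [h1]
        _ = f * z := by rw [hf]; group
    have hfix := hF f hfF
    have e1 : τ x = x * f := by rw [hf, mul_inv_cancel_left]
    have e3 : x * (f * f * f) = x := by
      calc x * (f * f * f) = x * f * f * f := by group
        _ = τ (τ (τ x)) := by rw [e1, map_mul, e1, hfix, map_mul, map_mul, e1, hfix]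
        _ = x := hτ.three x
    have h3 : f ^ 3 = 1 := by
      rw [mul_eq_left] at e3
      rw [← e3, pow_succ, pow_two]
    have hf1 : f = 1 := by
      rcases (Nat.dvd_prime Nat.prime_three).1 (orderOf_dvd_of_pow_eq_one h3) with h1 | h1
      · exact orderOf_eq_one_iff.1 h1
      · exact absurd (h1 ▸ orderOf_dvd_natCard f) hτ.ndvd
    rw [e1, hf1, mul_one]
  refine ⟨fun g => ?_, fun hd => ?_⟩
  · obtain ⟨n, hn, hfix⟩ := h.exists_fixed_mem_coset hQi (k := g)
      (QuotientGroup.eq.1 (show π g = π (σ g) by rw [← hτv]; exact (hall _).symm))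
    refine ⟨g * n, hfix, ?_⟩
    rw [mul_inv_rev, inv_mul_cancel_right]
    exact inv_mem hn
  · rw [index_eq_card] at hd
    obtain ⟨x, hx⟩ := exists_prime_orderOf_dvd_card' (G := G ⧸ Q) 2 hd
    exact absurd (hx ▸ hτ.odd x (hall x)) (by decide)

/-- `G = O_{2',2}(G) C(σ)` and `|G : O_{2',2}(G)|` is odd. -/
theorem Act.struct (h : Act σ) [Group.IsSolvable G] :
    (∀ g : G, ∃ a ∈ pPrimePCore 2 G, ∃ c : G, σ c = c ∧ g = a * c) ∧
      ¬ 2 ∣ (pPrimePCore 2 G).index := by
  haveI : Fact (Nat.Prime 2) := ⟨Nat.prime_two⟩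
  set O := pPrimeCore 2 G with hO
  obtain ⟨τ, hτ, hτv⟩ := h.quot (h.inv_pPrimeCore 2)
  set π := QuotientGroup.mk' O with hπ
  obtain ⟨h1, h2⟩ := hτ.struct_of_core_eq_bot PCore.pPrimeCore_quotient_self_eq_bot
  refine ⟨fun g => ?_, ?_⟩
  · obtain ⟨c', hc', hcg⟩ := h1 (π g)
    obtain ⟨k, rfl⟩ := QuotientGroup.mk'_surjective O c'
    rw [hτv] at hc'
    obtain ⟨n, hn, hfix⟩ := h.exists_fixed_mem_coset (h.inv_pPrimeCore 2) (k := k)
      (QuotientGroup.eq.1 hc'.symm)
    refine ⟨g * (k * n)⁻¹, ?_, k * n, hfix, (inv_mul_cancel_right _ _).symm⟩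
    show π (g * (k * n)⁻¹) ∈ pCore 2 (G ⧸ O)
    have hn1 : π n = 1 := (QuotientGroup.eq_one_iff n).2 hn
    rw [map_mul, map_inv, map_mul, hn1, mul_one]
    have := (inferInstance : (pCore 2 (G ⧸ O)).Normal).conj_mem _ hcg (π k)
    rwa [← mul_assoc, mul_inv_cancel, one_mul] at this
  · rw [show pPrimePCore 2 G = (pCore 2 (G ⧸ O)).comap π from rfl,
      index_comap_of_surjective _ (QuotientGroup.mk'_surjective O)]
    exact h2

/-- The Frattini factorisation `G = O(G) N(T)`. -/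
theorem Act.exists_core_mul_normalizer (h : Act σ) [Group.IsSolvable G] (T : Sylow 2 G) (g : G) :
    ∃ o ∈ pPrimeCore 2 G, ∃ n ∈ normalizer ((T : Subgroup G) : Set G), g = o * n := by
  haveI : Fact (Nat.Prime 2) := ⟨Nat.prime_two⟩
  set O := pPrimeCore 2 G with hO
  set π := QuotientGroup.mk' O with hπ
  obtain ⟨-, hidx⟩ := h.struct
  set Tb := T.mapSurjective (f := π) (QuotientGroup.mk'_surjective O) with hTb
  have hle : (pCore 2 (G ⧸ O)) ≤ (Tb : Subgroup _) := PCore.pCore_le_sylow Tb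
  have hieq : (pCore 2 (G ⧸ O)).index = (pPrimePCore 2 G).index :=
    (index_comap_of_surjective _ (QuotientGroup.mk'_surjective O)).symm
  have heq : (Tb : Subgroup _) = pCore 2 (G ⧸ O) := by
    refine ((IsPGroup.toSylow PCore.isPGroup_pCore ?_).is_maximal' Tb.isPGroup' hle)
    rwa [hieq]
  have htop := PCore.map_normalizer_mk' O PCore.coprime_card_pPrimeCore T.isPGroup'
  have hn : normalizer (((T : Subgroup G).map π : Subgroup _) : Set (G ⧸ O)) = ⊤ := by
    rw [show (T : Subgroup G).map π = pCore 2 (G ⧸ O) from heq, normalizer_eq_top]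
  rw [hn] at htop
  obtain ⟨n, hn', hne⟩ : π g ∈ (normalizer ((T : Subgroup G) : Set G)).map π := htop ▸ mem_top _
  refine ⟨g * n⁻¹, ?_, n, hn', (inv_mul_cancel_right g n).symm⟩
  rw [← QuotientGroup.eq_one_iff]
  show π (g * n⁻¹) = 1
  rw [map_mul, map_inv, hne, mul_inv_cancel]

/-- Fusion in an invariant Sylow 2-subgroup. -/
theorem Act.fusion_solvable (h : Act σ) [Group.IsSolvable G] {T : Sylow 2 G}
    (hT : Inv σ (T : Subgroup G)) (g : G) :
    ∃ s ∈ (T : Subgroup G), ∃ c ∈ normalizer ((T : Subgroup G) : Set G), σ c = c ∧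
      ∀ a ∈ (T : Subgroup G), g * a * g⁻¹ ∈ (T : Subgroup G) → g * a * g⁻¹ = s * (c * a * c⁻¹) * s⁻¹ := by
  haveI : Fact (Nat.Prime 2) := ⟨Nat.prime_two⟩
  set O := pPrimeCore 2 G with hO
  haveI hOn : O.Normal := inferInstance
  -- `G = O N(T)`
  have hfac : ∀ g : G, ∃ o ∈ O, ∃ n ∈ normalizer ((T : Subgroup G) : Set G), g = o * n :=
    fun g => h.exists_core_mul_normalizer T g
  have hcent : ∀ o ∈ O, ∀ t ∈ (T : Subgroup G), o * t * o⁻¹ ∈ (T : Subgroup G) → o * t * o⁻¹ = t := by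
    intro o ho t ht hot
    have h1 : o * t * o⁻¹ * t⁻¹ ∈ O := by
      rw [mul_assoc, mul_assoc]
      exact mul_mem ho (by rw [← mul_assoc]; exact hOn.conj_mem _ (inv_mem ho) t)
    have h2 := disjoint_def.1 (PCore.disjoint_of_isPGroup_of_coprime T.isPGroup' PCore.coprime_card_pPrimeCore)
      (Subgroup.mul_mem _ hot (Subgroup.inv_mem _ ht)) h1
    exact mul_inv_eq_one.1 h2
  obtain ⟨o, ho, n, hn, hg⟩ := hfac g
  -- inside `N(T)`
  set N := normalizer ((T : Subgroup G) : Set G) with hN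
  obtain ⟨τ, hτ, hτv⟩ := h.sub (h.inv_normalizer hT)
  obtain ⟨a, ha, c, hc, hac⟩ := hτ.struct.1 ⟨n, hn⟩
  -- `a = t o₁` with `o₁` in the odd core of `N`
  set O₁ := pPrimeCore 2 ↥N with hO₁
  set TN := T.subtype (le_normalizer : (T : Subgroup G) ≤ N) with hTN
  obtain ⟨t, htT, hte⟩ : QuotientGroup.mk' O₁ a ∈ (TN : Subgroup N).map (QuotientGroup.mk' O₁) :=
    (PCore.pCore_le_sylow (TN.mapSurjective (QuotientGroup.mk'_surjective O₁))) ha
  set o₁ := t⁻¹ * a with ho₁
  have ho₁O : o₁ ∈ O₁ := by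
    rw [← QuotientGroup.eq_one_iff]
    show QuotientGroup.mk' O₁ (t⁻¹ * a) = 1
    rw [map_mul, map_inv, hte, inv_mul_cancel]
  have hO₁c : ∀ x ∈ (T : Subgroup G), (o₁ : G) * x * (o₁ : G)⁻¹ = x := by
    intro x hx
    have hxN : x ∈ N := le_normalizer hx
    have hTn : ((TN : Subgroup N)).Normal := normal_in_normalizer
    have h1 : o₁ * ⟨x, hxN⟩ * o₁⁻¹ * (⟨x, hxN⟩ : N)⁻¹ ∈ O₁ := by
      rw [mul_assoc, mul_assoc]
      refine mul_mem ho₁O ?_
      rw [← mul_assoc]
      exact (inferInstance : O₁.Normal).conj_mem _ (inv_mem ho₁O) _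
    have h2 : o₁ * ⟨x, hxN⟩ * o₁⁻¹ * (⟨x, hxN⟩ : N)⁻¹ ∈ (TN : Subgroup N) :=
      mul_mem (hTn.conj_mem ⟨x, hxN⟩ hx o₁) (inv_mem (show (⟨x, hxN⟩ : N) ∈ (TN : Subgroup N) from hx))
    have h3 := mul_inv_eq_one.1
      (disjoint_def.1 (PCore.disjoint_of_isPGroup_of_coprime TN.isPGroup' PCore.coprime_card_pPrimeCore) h2 h1)
    exact congrArg Subtype.val h3
  have hcN : (c : G) ∈ N := c.2
  refine ⟨t, htT, c, hcN, by rw [← hτv, hc], fun x hx hgx => ?_⟩
  have h1 : n = t * o₁ * c := by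
    have := congrArg Subtype.val hac
    simp only [coe_mul] at this
    have e : (a : ↥N) = t * o₁ := by rw [ho₁, mul_inv_cancel_left]
    rw [this]
    exact congrArg (fun y : ↥N => (y : G) * (c : G)) e
  have hnx : n * x * n⁻¹ ∈ (T : Subgroup G) := (mem_normalizer_iff.1 hn x).1 hx
  have h2 : g * x * g⁻¹ = o * (n * x * n⁻¹) * o⁻¹ := by rw [hg]; group
  rw [h2] at hgx ⊢
  rw [hcent o ho _ hnx hgx, h1]
  have h3 : (c : G) * x * (c : G)⁻¹ ∈ (T : Subgroup G) := (mem_normalizer_iff.1 hcN x).1 hx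
  calc (t : G) * o₁ * c * x * ((t : G) * o₁ * c)⁻¹
      = (t : G) * ((o₁ : G) * ((c : G) * x * (c : G)⁻¹) * (o₁ : G)⁻¹) * (t : G)⁻¹ := by group
    _ = _ := by rw [hO₁c _ h3]

end Cfsg.Agent.ThreeFpf
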