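import Cfsg.Agent.Lib.ThreeFpf.Fusion
import Cfsg.Agent.Lib.Signalizer.Equivariant
import Cfsg.Agent.Lib.GoldschmidtFunctor.Fixed
import Cfsg.Agent.Lib.AbelianPComplement.StrongEmb
import Cfsg.Agent.Lib.Involution.StrongEmb
import Cfsg.Agent.S0217

/-!
# A minimal counterexample does not exist

`A = Ω₁(Z(T))` is strongly closed of order at least eight; `M = N(A) K`, `K` generated by the odd
cores `O(C(a))`, is strongly embedded, so all involutions are conjugate, and a fixed point conjugates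
`a` to `σ a`, which is impossible.
-/

set_option autoImplicit false
set_option linter.unusedSectionVars false
set_option linter.style.haveILetI false

namespace Cfsg.Agent.ThreeFpf

open Subgroup
open Cfsg (pCore pPrimeCore oddCore centralizerPPrimeCore)

universe u

variable {G : Type u} [Group G] [Finite G] {σ : MulAut G}

/-- The central elements of order at most two of `T`. -/
def omegaCenter (T : Sylow 2 G) : Subgroup G where
  carrier := {x | x ∈ (T : Subgroup G) ∧ x * x = 1 ∧ ∀ t ∈ (T : Subgroup G), x * t = t * x}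
  one_mem' := ⟨one_mem _, mul_one 1, fun t _ => by rw [one_mul, mul_one]⟩
  mul_mem' := fun {a b} ha hb => ⟨mul_mem ha.1 hb.1, by
    calc a * b * (a * b) = a * (b * a) * b := by group
      _ = a * a * (b * b) := by rw [← ha.2.2 b hb.1]; group
      _ = 1 := by rw [ha.2.1, hb.2.1, mul_one],
    fun t ht => by rw [mul_assoc, hb.2.2 t ht, ← mul_assoc, ha.2.2 t ht, mul_assoc]⟩
  inv_mem' := fun {a} ha => by rw [inv_eq_of_mul_eq_one_right ha.2.1]; exact ha

theorem mul_self_of_mem {T : Sylow 2 G} {a : G} (ha : a ∈ omegaCenter T) : a * a = 1 := ha.2.1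

theorem orderOf_eq_two_of_mem {T : Sylow 2 G} {a : G} (ha : a ∈ omegaCenter T) (h1 : a ≠ 1) :
    orderOf a = 2 :=
  orderOf_eq_prime_iff.2 ⟨by rw [pow_two]; exact ha.2.1, h1⟩

theorem omegaCenter_le (T : Sylow 2 G) : omegaCenter T ≤ (T : Subgroup G) := fun _ hx => hx.1

theorem le_centralizer_omegaCenter {T : Sylow 2 G} {x : G} (hx : x ∈ (T : Subgroup G)) :
    omegaCenter T ≤ centralizer ({x} : Set G) := fun _ ha =>
  mem_centralizer_singleton_iff.2 (ha.2.2 x hx)

theorem normalizer_le_omegaCenter (T : Sylow 2 G) :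
    normalizer ((T : Subgroup G) : Set G) ≤ normalizer (omegaCenter T : Set G) := fun d hd =>
  mem_normalizer_fintype fun a ha => ⟨(mem_normalizer_iff.1 hd a).1 ha.1, by
    calc d * a * d⁻¹ * (d * a * d⁻¹) = d * (a * a) * d⁻¹ := by group
      _ = 1 := by rw [ha.2.1]; group,
    fun t ht => by
      have h1 := ha.2.2 _ ((mem_normalizer_iff''.1 hd t).1 ht)
      calc d * a * d⁻¹ * t = d * (a * (d⁻¹ * t * d)) * d⁻¹ := by group
        _ = d * (d⁻¹ * t * d * a) * d⁻¹ := by rw [h1]
        _ = t * (d * a * d⁻¹) := by group⟩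

theorem le_normalizer_omegaCenter (T : Sylow 2 G) :
    (T : Subgroup G) ≤ normalizer (omegaCenter T : Set G) :=
  le_normalizer.trans (normalizer_le_omegaCenter T)

theorem exists_smul_mem (T : Sylow 2 G) {H : Subgroup G} (hH : IsPGroup 2 H) :
    ∃ g : G, ∀ x ∈ H, g * x * g⁻¹ ∈ (T : Subgroup G) := by
  haveI : Fact (Nat.Prime 2) := ⟨Nat.prime_two⟩
  obtain ⟨P, hP⟩ := hH.exists_le_sylow
  obtain ⟨g, hg⟩ := MulAction.exists_smul_eq G P T
  refine ⟨g, fun x hx => ?_⟩
  rw [← hg, Sylow.coe_subgroup_smul]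
  exact smul_mem_pointwise_smul x (MulAut.conj g) _ (hP hx)

/-- An involution of `M ≥ T` is conjugate in `M` into `T`. -/
theorem exists_smul_mem_of_le (T : Sylow 2 G) {M : Subgroup G} (hTM : (T : Subgroup G) ≤ M) {x : G}
    (hx : x ∈ M) (hx2 : orderOf x = 2) : ∃ m ∈ M, m * x * m⁻¹ ∈ (T : Subgroup G) := by
  haveI : Fact (Nat.Prime 2) := ⟨Nat.prime_two⟩
  obtain ⟨m, hm⟩ := exists_smul_mem (G := M) (T.subtype hTM) (H := zpowers (⟨x, hx⟩ : M))
    (IsPGroup.of_card (n := 1) (by rw [Nat.card_zpowers, orderOf_mk, hx2, pow_one]))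
  exact ⟨m, m.2, hm _ (mem_zpowers _)⟩

/-- If a fixed point conjugates `a` to `σ a` then `a` is fixed. -/
theorem Act.eq_of_conj (h : Act σ) {a d : G} (hd : σ d = d) (he : d * a * d⁻¹ = σ a) : σ a = a := by
  have hper : Function.IsPeriodicPt σ 3 a := h.three a
  have hit : ∀ k : ℕ, d ^ k * a * (d ^ k)⁻¹ = σ^[k] a := by
    intro k
    induction k with
    | zero => simp
    | succ k ih =>
      have hk : σ (d ^ k) = d ^ k := by rw [map_pow, hd]
      rw [Function.iterate_succ_apply', ← ih, map_mul, map_mul, map_inv, hk, ← he, pow_succ]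
      group
  have h1 := hit (orderOf d)
  rw [pow_orderOf_eq_one, one_mul, inv_one, mul_one, ← hper.iterate_mod_apply] at h1
  have h3 : ¬ orderOf d % 3 = 0 := fun e => h.ndvd
    ((Nat.dvd_of_mod_eq_zero e).trans (orderOf_dvd_natCard d))
  rcases (show orderOf d % 3 = 1 ∨ orderOf d % 3 = 2 by omega) with e | e
  · rw [e] at h1
    exact h1.symm
  · rw [e] at h1
    have h2 := congrArg σ h1
    rwa [Function.iterate_succ_apply', Function.iterate_one, h.three] at h2

variable (c : Cex σ) {T : Sylow 2 G} (hT : Inv σ (T : Subgroup G))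
include c hT

theorem Cex.inv_omegaCenter : Inv σ (omegaCenter T) := fun a ha =>
  ⟨hT _ ha.1, by rw [← map_mul, ha.2.1, map_one], fun t ht => by
    have := congrArg σ (ha.2.2 (σ (σ t)) (hT _ (hT _ ht)))
    rwa [map_mul, map_mul, c.act.three] at this⟩

/-- Fusion of an element of `A`. -/
theorem Cex.fusion_omegaCenter {a g : G} (ha : a ∈ omegaCenter T)
    (hg : g * a * g⁻¹ ∈ (T : Subgroup G)) :
    ∃ d ∈ normalizer ((T : Subgroup G) : Set G), σ d = d ∧ g * a * g⁻¹ = d * a * d⁻¹ := by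
  obtain ⟨s, hs, d, hd, hfix, he⟩ := c.fusion hT (A := {a}) (g := g)
    (Set.singleton_subset_iff.2 ha.1) (by rintro x rfl; exact hg)
  refine ⟨d, hd, hfix, ?_⟩
  have h1 := (mem_normalizer_iff.1 (normalizer_le_omegaCenter T hd) a).1 ha
  rw [he a rfl, ← h1.2.2 s hs, mul_inv_cancel_right]

/-- `A` is strongly closed. -/
theorem Cex.conj_mem_omegaCenter {a g : G} (ha : a ∈ omegaCenter T)
    (hg : g * a * g⁻¹ ∈ (T : Subgroup G)) : g * a * g⁻¹ ∈ omegaCenter T := by
  obtain ⟨d, hd, -, he⟩ := c.fusion_omegaCenter hT ha hg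
  rw [he]
  exact (mem_normalizer_iff.1 (normalizer_le_omegaCenter T hd) a).1 ha

theorem Cex.mem_normalizer_omegaCenter {g : G}
    (hg : ∀ a ∈ omegaCenter T, g * a * g⁻¹ ∈ (T : Subgroup G)) :
    g ∈ normalizer (omegaCenter T : Set G) :=
  mem_normalizer_fintype fun a ha => c.conj_mem_omegaCenter hT ha (hg a ha)

theorem Cex.exists_ne_one : ∃ a ∈ omegaCenter T, a ≠ 1 := by
  haveI : Fact (Nat.Prime 2) := ⟨Nat.prime_two⟩
  haveI := (nontrivial_iff_ne_bot _).2 (c.sylow_ne_bot T)
  haveI := T.isPGroup'.center_nontrivial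
  obtain ⟨k, hk, hc⟩ :=
    (T.isPGroup'.to_subgroup (center ↥(T : Subgroup G))).nontrivial_iff_card.mp inferInstance
  obtain ⟨z, hz⟩ := exists_prime_orderOf_dvd_card' (G := center ↥(T : Subgroup G)) 2
    (hc ▸ dvd_pow_self 2 hk.ne')
  refine ⟨((z : ↥(T : Subgroup G)) : G), ⟨(z : ↥(T : Subgroup G)).2, ?_, fun t ht =>
    (congrArg Subtype.val (mem_center_iff.1 z.2 ⟨t, ht⟩)).symm⟩, fun e => ?_⟩
  · have h2 := congrArg (fun w : center ↥(T : Subgroup G) => ((w : ↥(T : Subgroup G)) : G))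
      ((congrArg (z ^ ·) hz).symm.trans (pow_orderOf_eq_one z))
    rw [← pow_two]
    exact h2
  · have : orderOf ((z : ↥(T : Subgroup G)) : G) = 2 := by
      rw [Subgroup.orderOf_coe, Subgroup.orderOf_coe, hz]
    rw [e, orderOf_one] at this
    omega

theorem Cex.good_of_mem {a : G} (ha : a ∈ omegaCenter T) (h1 : a ≠ 1) : Good σ T a :=
  ⟨ha.1, orderOf_eq_two_of_mem ha h1, fun d _ _ s hs he => by
    rw [he, ← ha.2.2 s hs, mul_inv_cancel_right]⟩

theorem Cex.eight_le : 8 ≤ Nat.card (omegaCenter T) := by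
  classical
  haveI : Fact (Nat.Prime 2) := ⟨Nat.prime_two⟩
  obtain ⟨a, ha, ha1⟩ := c.exists_ne_one hT
  set A := omegaCenter T with hA
  have hA2 : IsPGroup 2 A := T.isPGroup'.to_le (omegaCenter_le T)
  obtain ⟨k, hk⟩ := IsPGroup.iff_card.1 hA2
  have hinv := c.inv_omegaCenter hT
  have hfpf : ∀ b ∈ A, σ b = b → b = 1 := fun b hb he =>
    c.act.eq_one_of_fixed (k := 1) he (by rw [pow_one, pow_two]; exact hb.2.1)
  have hprod := ((c.act.two_group hT T.isPGroup').1 a ha.1).1
  have n1 : σ a ≠ a := fun e => ha1 (hfpf a ha e)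
  have n2 : σ (σ a) ≠ σ a := fun e => n1 (σ.injective e)
  have n3 : σ (σ a) ≠ a := fun e => n1 (by conv_lhs => rw [← e, c.act.three])
  have n4 : σ a ≠ 1 := fun e => ha1 (σ.injective (e.trans (map_one σ).symm))
  have n5 : σ (σ a) ≠ 1 := fun e => n4 (σ.injective (e.trans (map_one σ).symm))
  let f : Fin 4 → A := ![1, ⟨a, ha⟩, ⟨σ a, hinv _ ha⟩, ⟨σ (σ a), hinv _ (hinv _ ha)⟩]
  have hf : Function.Injective f := by
    intro i j hij
    have := congrArg Subtype.val hij
    fin_cases i <;> fin_cases j <;> first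
      | rfl
      | exact absurd this ha1 | exact absurd this.symm ha1
      | exact absurd this n1 | exact absurd this.symm n1
      | exact absurd this n2 | exact absurd this.symm n2
      | exact absurd this n3 | exact absurd this.symm n3
      | exact absurd this n4 | exact absurd this.symm n4
      | exact absurd this n5 | exact absurd this.symm n5
  have h4 : 4 ≤ Nat.card A := by simpa using Nat.card_le_card_of_injective f hf
  by_contra h8
  have hk2 : Nat.card A = 4 := by
    rw [hk] at h4 h8 ⊢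
    rcases Nat.lt_or_ge k 3 with h | h
    · interval_cases k <;> omega
    · exact absurd ((Nat.pow_le_pow_right (by norm_num) h : 2 ^ 3 ≤ 2 ^ k)) (by omega)
  have hsurj : Function.Surjective f := by
    haveI := Fintype.ofFinite A
    refine ((Fintype.bijective_iff_injective_and_card f).2 ⟨hf, ?_⟩).2
    rw [Fintype.card_fin, ← Nat.card_eq_fintype_card, hk2]
  have hcent : ∀ d ∈ normalizer ((T : Subgroup G) : Set G), σ d = d → d * a * d⁻¹ = a := by
    intro d hd hfix
    obtain ⟨i, hi⟩ := hsurj ⟨_, (mem_normalizer_iff.1 (normalizer_le_omegaCenter T hd) a).1 ha⟩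
    have hi' := (congrArg Subtype.val hi).symm
    fin_cases i
    · exact absurd hi' fun e => ha1 (by
        have e' : d * a * d⁻¹ = 1 := e
        rwa [mul_inv_eq_one, mul_eq_left] at e')
    · exact hi'
    · exact absurd (c.act.eq_of_conj hfix hi') n1
    · refine absurd (c.act.eq_of_conj (d := d⁻¹) (by rw [map_inv, hfix]) ?_) n1
      have e' : d * a * d⁻¹ = σ (σ a) := hi'
      have := congrArg σ e'
      rw [map_mul, map_mul, map_inv, hfix, c.act.three] at this
      conv_lhs => rw [← this]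
      group
  have hiso := ZStar.isolated_of_sylow (orderOf_eq_two_of_mem ha ha1) ha.1 fun g hg => by
    obtain ⟨d, hd, hfix, he⟩ := c.fusion_omegaCenter hT ha hg
    rw [he, hcent d hd hfix]
  have hO : oddCore G = ⊥ := c.eq_bot_of_normal inferInstance
    (c.ne_top_of_solvable (S0205.result PCore.odd_card_oddCore))
  have hz := ZStar.mem_center_of_oddCore_eq_bot (ZStar.inZStar hiso) hO
  rw [c.center_eq_bot, mem_bot] at hz
  exact ha1 hz

omit c hT in
/-- The subgroup generated by the odd cores `O(C(a))`, `a ∈ A#`. -/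
def bigCore (T : Sylow 2 G) : Subgroup G :=
  ⨆ a : {a : G // a ∈ omegaCenter T ∧ a ≠ 1}, centralizerPPrimeCore 2 a.1

theorem Cex.odd_bigCore : Odd (Nat.card (bigCore T)) := by
  haveI : Fact (Nat.Prime 2) := ⟨Nat.prime_two⟩
  have h := (S0217.result (p := 2) (omegaCenter T) (fun a ha b hb => ha.2.2 b hb.1)
    (fun a ha => by rw [pow_two]; exact ha.2.1) (c.eight_le hT)
    (fun a => centralizerPPrimeCore 2 a) (fun a _ _ => map_subtype_le _)
    (fun a _ _ => (Nat.prime_two.coprime_iff_not_dvd).1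
      (GoldschmidtFunctor.coprime_centralizerPPrimeCore a).symm)
    (fun a ha _ b hb x hx => (mem_normalizer_iff.1
      (GoldschmidtFunctor.le_normalizer_centralizerPPrimeCore a
        (le_centralizer_omegaCenter ha.1 hb)) x).1 hx)
    (fun a ha ha1 => by
      haveI := c.solvable_centralizer hT (orderOf_eq_two_of_mem ha ha1)
      exact Group.isSolvable_of_isSolvable_injective
        (Subgroup.inclusion_injective (GoldschmidtFunctor.centralizerPPrimeCore_le a)))
    (fun a ha _ b hb hb1 => Signalizer.balance_centralizerPPrimeCore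
      (by rw [pow_two]; exact ha.2.1) (ha.2.2 b hb.1)
      (c.isPConstrained hT (orderOf_eq_two_of_mem hb hb1)))).1
  exact Nat.not_even_iff_odd.1 fun he => h he.two_dvd

omit c hT in
theorem normalizer_omegaCenter_le_normalizer_bigCore (T : Sylow 2 G) :
    normalizer (omegaCenter T : Set G) ≤ normalizer (bigCore T : Set G) := by
  intro n hn
  rw [mem_normalizer_iff_map_conj_eq]
  refine eq_of_le_of_card_ge ?_ (card_map_of_injective (MulAut.conj n).injective).ge
  rw [bigCore, Subgroup.map_iSup]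
  refine iSup_le fun a => ?_
  refine (Signalizer.map_centralizerPPrimeCore a.1 n).trans ?_
  exact le_iSup (fun b : {a : G // a ∈ omegaCenter T ∧ a ≠ 1} =>
    centralizerPPrimeCore 2 b.1) ⟨n * a.1 * n⁻¹, (mem_normalizer_iff.1 hn a.1).1 a.2.1, fun h =>
      a.2.2 (by rwa [mul_inv_eq_one, mul_eq_left] at h)⟩

theorem Cex.centralizerPPrimeCore_le_bigCore {x : G} (hxT : x ∈ (T : Subgroup G))
    (hx : x * x = 1) : centralizerPPrimeCore 2 x ≤ bigCore T := by
  haveI : Fact (Nat.Prime 2) := ⟨Nat.prime_two⟩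
  set A := omegaCenter T with hA
  haveI : IsMulCommutative A := ⟨⟨fun a b => Subtype.ext (a.2.2.2 b b.2.1)⟩⟩
  refine Coprime.le_of_forall_cyclic_quotient (A := A)
    ((le_centralizer_omegaCenter hxT).trans
      (GoldschmidtFunctor.le_normalizer_centralizerPPrimeCore x)) ?_ fun B hB hcyc => ?_
  · obtain ⟨j, hj⟩ := IsPGroup.iff_card.1 (T.isPGroup'.to_le (omegaCenter_le T))
    rw [hj]
    exact Nat.Coprime.pow_left j (GoldschmidtFunctor.coprime_centralizerPPrimeCore x).symm
  · obtain ⟨a, ha, hsup⟩ := hcyc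
    have h2 := AbelianPComplement.card_le_two_mul (fun y hy => mul_self_of_mem hy) hB ha hsup
    have h8 := c.eight_le hT
    obtain ⟨b, hb, hb1⟩ : ∃ b ∈ B, b ≠ 1 := by
      by_contra hno
      push Not at hno
      rw [(eq_bot_iff_forall B).2 hno, card_bot] at h2
      omega
    have hbA := hB hb
    refine le_trans ?_ (le_iSup (fun b : {a : G // a ∈ omegaCenter T ∧ a ≠ 1} =>
      centralizerPPrimeCore 2 b.1) ⟨b, hbA, hb1⟩)
    refine (inf_le_inf_left _ ?_).trans (Signalizer.balance_centralizerPPrimeCore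
      (a := x) (b := b) (by rw [pow_two, hx]) (hbA.2.2 x hxT).symm
      (c.isPConstrained hT (orderOf_eq_two_of_mem hbA hb1)))
    exact centralizer_le (Set.singleton_subset_iff.2 hb)

omit c hT in
/-- `M = N(A) K`. -/
def bigM (T : Sylow 2 G) : Subgroup G := normalizer (omegaCenter T : Set G) ⊔ bigCore T

omit c hT in
theorem normalizer_le_bigM (T : Sylow 2 G) : normalizer ((T : Subgroup G) : Set G) ≤ bigM T :=
  (normalizer_le_omegaCenter T).trans le_sup_left

omit c hT in
theorem sylow_le_bigM (T : Sylow 2 G) : (T : Subgroup G) ≤ bigM T :=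
  le_normalizer.trans (normalizer_le_bigM T)

theorem Cex.bigM_ne_top : bigM T ≠ ⊤ := by
  obtain ⟨a, ha, ha1⟩ := c.exists_ne_one hT
  have hA1 : omegaCenter T ≠ ⊥ := fun e => ha1 (by rwa [e, mem_bot] at ha)
  by_cases hKb : bigCore T = ⊥
  · rw [bigM, hKb, sup_bot_eq]
    exact c.normalizer_ne_top hA1
      (c.ne_top_of_solvable (isSolvable_of_isPGroup (T.isPGroup'.to_le (omegaCenter_le T))))
  · refine ne_top_of_le_ne_top
      (c.normalizer_ne_top hKb (c.ne_top_of_solvable (S0205.result (c.odd_bigCore hT)))) ?_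
    exact sup_le (normalizer_omegaCenter_le_normalizer_bigCore T) le_normalizer

/-- `C(z) ≤ M` for a good `z`. -/
theorem Cex.centralizer_le_bigM {z : G} (hz : Good σ T z) :
    centralizer ({z} : Set G) ≤ bigM T := by
  haveI : Fact (Nat.Prime 2) := ⟨Nat.prime_two⟩
  set H := centralizer ({z} : Set G) with hH
  set X := centralizer ({z, σ z} : Set G) with hX
  have hXH : X ≤ H := centralizer_pair_le (σ := σ) hT z
  have hz1 : z ≠ 1 := fun e => by have := hz.2.1; rw [e, orderOf_one] at this; omega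
  haveI := c.solv _ (inv_centralizer_pair hT c.act hz.1)
    (ne_top_of_le_ne_top (c.centralizer_ne_top hz1) hXH)
  obtain ⟨τ, hτ, hτv⟩ := c.act.sub (inv_centralizer_pair hT c.act hz.1)
  have hsurj := c.centralizer_surjective hT hz
  set f := (QuotientGroup.mk' (pPrimeCore 2 ↥H)).comp (Subgroup.inclusion hXH) with hf
  have hOX : ∀ o ∈ pPrimeCore 2 ↥X, f o = 1 := by
    have h1 : (pPrimeCore 2 ↥X).map f = ⊥ := by
      haveI : ((pPrimeCore 2 ↥X).map f).Normal := Subgroup.Normal.map inferInstance f hsurj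
      have h2 : (pPrimeCore 2 ↥X).map f ≤ pPrimeCore 2 (↥H ⧸ pPrimeCore 2 ↥H) :=
        PCore.le_pPrimeCore (PCore.coprime_card_pPrimeCore.coprime_dvd_left (card_map_dvd _ _))
      rwa [PCore.pPrimeCore_quotient_self_eq_bot, le_bot_iff] at h2
    intro o ho
    exact (Subgroup.mem_bot).1 (h1 ▸ mem_map_of_mem f ho)
  have hAX : omegaCenter T ≤ X := fun a ha => mem_centralizer_iff.2 (by
    rintro y (rfl | rfl)
    · exact (ha.2.2 y hz.1).symm
    · exact (ha.2.2 _ (hT _ hz.1)).symm)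
  obtain ⟨R, hR⟩ := ((T.isPGroup'.to_le (omegaCenter_le T)).comap_of_injective X.subtype
    X.subtype_injective).exists_le_sylow
  obtain ⟨g, hg⟩ := exists_smul_mem T (R.isPGroup'.map X.subtype)
  have hgA : g ∈ normalizer (omegaCenter T : Set G) := c.mem_normalizer_omegaCenter hT
    fun a ha => hg a ⟨⟨a, hAX ha⟩, hR ha, rfl⟩
  intro x hx
  obtain ⟨y, hy⟩ := hsurj (QuotientGroup.mk' (pPrimeCore 2 ↥H) ⟨x, hx⟩)
  obtain ⟨o, ho, n, hn, rfl⟩ := hτ.exists_core_mul_normalizer R y
  rw [map_mul, hOX o ho, one_mul] at hy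
  have hk : (⟨x, hx⟩ : H) * (Subgroup.inclusion hXH n)⁻¹ ∈ pPrimeCore 2 ↥H := by
    rw [← QuotientGroup.eq_one_iff]
    show QuotientGroup.mk' (pPrimeCore 2 ↥H) _ = 1
    rw [map_mul, map_inv, ← hy]
    exact mul_inv_cancel _
  have hk' : x * (n : G)⁻¹ ∈ bigCore T := c.centralizerPPrimeCore_le_bigCore hT hz.1
    (by have := pow_orderOf_eq_one z; rwa [hz.2.1, pow_two] at this) ⟨_, hk, rfl⟩
  have hnA : (n : G) ∈ normalizer (omegaCenter T : Set G) := mem_normalizer_fintype fun a ha => by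
    have h1 : g * ((n : G) * a * (n : G)⁻¹) * g⁻¹ ∈ (T : Subgroup G) :=
      hg _ ⟨n * ⟨a, hAX ha⟩ * n⁻¹, (mem_normalizer_iff.1 hn _).1 (hR ha), rfl⟩
    have h2 : g * n * a * (g * (n : G))⁻¹ ∈ omegaCenter T := c.conj_mem_omegaCenter hT ha (by
      convert h1 using 1; group)
    have h3 := (mem_normalizer_iff''.1 hgA _).1 h2
    rwa [show g⁻¹ * (g * n * a * (g * (n : G))⁻¹) * g = (n : G) * a * (n : G)⁻¹ by group] at h3
  have := mul_mem (mem_sup_right hk' : x * (n : G)⁻¹ ∈ bigM T) (mem_sup_left hnA : (n : G) ∈ bigM T)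
  rwa [inv_mul_cancel_right] at this

/-- `M` is strongly embedded. -/
theorem Cex.isStronglyEmbedded : Cfsg.IsStronglyEmbedded (bigM T) := by
  haveI : Fact (Nat.Prime 2) := ⟨Nat.prime_two⟩
  refine ⟨c.bigM_ne_top hT, ?_, fun g hg => ?_⟩
  · refine even_iff_two_dvd.2 (Dvd.dvd.trans ?_ (card_dvd_of_le (sylow_le_bigM T)))
    obtain ⟨a, ha, ha1⟩ := c.exists_ne_one hT
    have h := orderOf_dvd_natCard (⟨a, ha.1⟩ : (T : Subgroup G))
    rwa [orderOf_mk, orderOf_eq_two_of_mem ha ha1] at h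
  by_contra hev
  rw [Nat.not_odd_iff_even, even_iff_two_dvd] at hev
  obtain ⟨y, hy2⟩ := exists_prime_orderOf_dvd_card' (G := ↥(bigM T ⊓ (bigM T).map (MulAut.conj g).toMonoidHom)) 2 hev
  rw [← Subgroup.orderOf_coe] at hy2
  obtain ⟨hyM, x, hxM, hxy⟩ := y.2
  have hxy' : g * x * g⁻¹ = (y : G) := hxy
  have hx2 : orderOf x = 2 := by rw [← orderOf_conj g x, hxy', hy2]
  -- move into `T`
  obtain ⟨m₂, hm₂, hy'⟩ := exists_smul_mem_of_le T (sylow_le_bigM T) hyM hy2
  obtain ⟨m₁, hm₁, hx'⟩ := exists_smul_mem_of_le T (sylow_le_bigM T) hxM hx2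
  obtain ⟨t, ht, hgood⟩ := c.exists_good hT hx' ((orderOf_conj m₁ x).trans hx2)
  set z := t * (m₁ * x * m₁⁻¹) * t⁻¹ with hz
  set g' := m₂ * g * (t * m₁)⁻¹ with hg'
  have he : g' * z * g'⁻¹ = m₂ * y * m₂⁻¹ := by
    rw [hg', hz, ← hxy']
    group
  obtain ⟨s, hs, d, hd, -, hde⟩ := c.fusion hT (A := {z}) (g := g')
    (Set.singleton_subset_iff.2 hgood.1) (by rintro w rfl; rw [he]; exact hy')
  have h1 : (s * d)⁻¹ * g' ∈ centralizer ({z} : Set G) := by
    rw [mem_centralizer_singleton_iff]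
    calc (s * d)⁻¹ * g' * z = (s * d)⁻¹ * (g' * z * g'⁻¹) * g' := by group
      _ = (s * d)⁻¹ * (s * (d * z * d⁻¹) * s⁻¹) * g' := by rw [hde z rfl]
      _ = z * ((s * d)⁻¹ * g') := by group
  have h2 : g' ∈ bigM T := by
    have := mul_mem (mul_mem (sylow_le_bigM T hs) (normalizer_le_bigM T hd))
      (c.centralizer_le_bigM hT hgood h1)
    rwa [← mul_assoc, mul_inv_cancel, one_mul] at this
  apply hg
  have := mul_mem (mul_mem (inv_mem hm₂) h2) (mul_mem (sylow_le_bigM T ht) hm₁)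
  convert this using 1
  rw [hg']
  group

omit hT in
/-- There is no minimal counterexample. -/
theorem Cex.false : False := by
  haveI : Fact (Nat.Prime 2) := ⟨Nat.prime_two⟩
  obtain ⟨T, hT⟩ := c.act.exists_inv_sylow 2
  obtain ⟨a, ha, ha1⟩ := c.exists_ne_one hT
  have ha2 := orderOf_eq_two_of_mem ha ha1
  obtain ⟨g, hg⟩ := isConj_iff.1 (Involution.StrongEmb.isConj_involutions (c.isStronglyEmbedded hT)
    ha2 (b := σ a) (by rw [MulEquiv.orderOf_eq, ha2]))
  obtain ⟨d, -, hfix, he⟩ := c.fusion_omegaCenter hT ha (by rw [hg]; exact hT _ ha.1)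
  rw [hg] at he
  exact ha1 (c.act.eq_one_of_fixed (k := 1) (c.act.eq_of_conj hfix he.symm)
    (by rw [pow_one, pow_two]; exact ha.2.1))

end Cfsg.Agent.ThreeFpf
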